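import Cfsg.Agent.Lib.FieldFour
import Cfsg.Agent.Lib.SL2Mat

/-!
# NO-3S TwoOne (helper881's text #18307), section 5: a module of order 16 (`k = 1`), pure part

`Core l m l' m' a a' x` : `M` has order 16 and basis `l, m, l', m'`; `a, a' = x a x⁻¹` are involutions,
`[l', a] = m`, `[m', a] = l + m`, `[l, a'] = m'`, `[m, a'] = l' + m'`, `a` centralises `l, m`, `a'` centralises `l', m'`,
`C_H(a) = Stab(l)`.

* `E` : the coordinates `F₄² → M`; `a` acts as `up w`, `a'` as `lo w`;
* `Core.cyc` : if the orbit of `l` is the orbit under `d = a a'`, then `⟨d⟩` is normal (and `a d ≠ d a`).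
-/

set_option autoImplicit false
set_option linter.unusedSectionVars false

namespace Cfsg.Agent.Omega.NO3S.KOne.Five

open Cfsg.Agent.Lib.FieldFour Cfsg.Agent.Lib.SL2Mat Subgroup

/-- `SL₂(4)` -/
abbrev SL := Matrix.SpecialLinearGroup (Fin 2) F4

/-- the action on pairs -/
def ap (A : SL) (x : F4 × F4) : F4 × F4 :=
  (ent A 0 0 * x.1 + ent A 0 1 * x.2, ent A 1 0 * x.1 + ent A 1 1 * x.2)

theorem ap_mul (A B : SL) (x : F4 × F4) : ap (A * B) x = ap A (ap B x) := by
  unfold ap
  simp only [ent_mul]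
  ext <;> ring

theorem ap_one (x : F4 × F4) : ap 1 x = x := by
  unfold ap
  simp

theorem ap_add (A : SL) (x y : F4 × F4) : ap A (x + y) = ap A x + ap A y := by
  unfold ap
  ext <;> simp only [Prod.fst_add, Prod.snd_add] <;> ring

theorem ap_inv (A : SL) (x : F4 × F4) : ap A (ap A⁻¹ x) = x := by
  rw [← ap_mul, mul_inv_cancel, ap_one]

theorem ap_inv' (A : SL) (x : F4 × F4) : ap A⁻¹ (ap A x) = x := by
  rw [← ap_mul, inv_mul_cancel, ap_one]

theorem ap_ext {A B : SL} (h : ∀ x, ap A x = ap B x) : A = B := by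
  have h1 := h (1, 0)
  have h2 := h (0, 1)
  unfold ap at h1 h2
  simp only [mul_one, mul_zero, add_zero, zero_add, Prod.mk.injEq] at h1 h2
  exact ext_ent h1.1 h2.1 h1.2 h2.2

/-- scalar multiplication -/
def sm (s : F4) (x : F4 × F4) : F4 × F4 := (s * x.1, s * x.2)

theorem ap_sm (A : SL) (s : F4) (x : F4 × F4) : ap A (sm s x) = sm s (ap A x) := by
  unfold ap sm
  ext <;> ring

theorem ap_up (c : F4) (x : F4 × F4) : ap (up c) x = (x.1 + c * x.2, x.2) := by
  unfold ap
  simp

theorem ap_lo (c : F4) (x : F4 × F4) : ap (lo c) x = (x.1, c * x.1 + x.2) := by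
  unfold ap
  simp

/-- the matrix of `d = a a'` -/
def P : SL := up F4.w * lo F4.w

/-- `P` on pairs -/
def pf (x : F4 × F4) : F4 × F4 := (x.1 + F4.w * (F4.w * x.1 + x.2), F4.w * x.1 + x.2)

theorem ap_P (x : F4 × F4) : ap P x = pf x := by
  unfold P pf
  rw [ap_mul, ap_lo, ap_up]

theorem pf_cases (x : F4 × F4) (hx : x ≠ 0) : ∃ t : F4, t ≠ 0 ∧
    (x = (t, 0) ∨ x = pf (t, 0) ∨ x = pf (pf (t, 0)) ∨ x = pf (pf (pf (t, 0))) ∨ x = pf (pf (pf (pf (t, 0))))) := by
  revert x
  decide

theorem pf_five (x : F4 × F4) : pf (pf (pf (pf (pf x)))) = x := by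
  revert x
  decide

theorem P_five : P ^ 5 = 1 := by
  apply ap_ext
  intro x
  rw [ap_one]
  have : P ^ 5 = P * (P * (P * (P * P))) := by simp only [pow_succ, pow_zero, one_mul, mul_assoc]
  rw [this, ap_mul, ap_mul, ap_mul, ap_mul, ap_P, ap_P, ap_P, ap_P, ap_P, pf_five]

/-- every nonzero vector is a `P^i`-image of a vector of the first line -/
theorem exists_pow (x : F4 × F4) (hx : x ≠ 0) : ∃ i : ℕ, ∃ t : F4, t ≠ 0 ∧ x = ap (P ^ i) (t, 0) := by
  obtain ⟨t, ht, e⟩ := pf_cases x hx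
  rcases e with e | e | e | e | e
  · exact ⟨0, t, ht, by rw [pow_zero, ap_one, e]⟩
  · exact ⟨1, t, ht, by rw [pow_one, ap_P, e]⟩
  · exact ⟨2, t, ht, by rw [pow_two, ap_mul, ap_P, ap_P, e]⟩
  · refine ⟨3, t, ht, ?_⟩
    have : P ^ 3 = P * (P * P) := by simp only [pow_succ, pow_zero, one_mul, mul_assoc]
    rw [this, ap_mul, ap_mul, ap_P, ap_P, ap_P, e]
  · refine ⟨4, t, ht, ?_⟩
    have : P ^ 4 = P * (P * (P * P)) := by simp only [pow_succ, pow_zero, one_mul, mul_assoc]
    rw [this, ap_mul, ap_mul, ap_mul, ap_P, ap_P, ap_P, ap_P, e]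

/-- `lo c` is a conjugate of `up c` -/
theorem lo_eq (c : F4) : lo c = P ^ 2 * up c * (P ^ 2)⁻¹ := by
  rw [eq_mul_inv_iff_mul_eq]
  apply ap_ext
  intro x
  rw [ap_mul, ap_mul, pow_two, ap_mul, ap_mul, ap_P, ap_P, ap_P, ap_P, ap_lo, ap_up]
  revert x c
  decide

section mod

variable {M H : Type*} [AddCommGroup M] [Group H] [DistribMulAction H M]

/-- the additive map `F₄ → M`, `1 ↦ l`, `w ↦ m` -/
def fe (l m : M) : F4 → M
  | .o => 0
  | .i => l
  | .w => m
  | .v => l + m

theorem fe_add (two : ∀ m : M, m + m = 0) (l m : M) (p q : F4) : fe l m (p + q) = fe l m p + fe l m q := by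
  have hl := two l
  have hm := two m
  have h1 : l + (l + m) = m := by rw [← add_assoc, hl, zero_add]
  have h2 : m + (l + m) = l := by
    calc m + (l + m) = l + (m + m) := by abel
      _ = l := by rw [hm, add_zero]
  cases p <;> cases q
  · exact (add_zero _).symm
  · exact (zero_add _).symm
  · exact (zero_add _).symm
  · exact (zero_add _).symm
  · exact (add_zero _).symm
  · exact hl.symm
  · rfl
  · exact h1.symm
  · exact (add_zero _).symm
  · exact add_comm _ _
  · exact hm.symm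
  · exact h2.symm
  · exact (add_zero _).symm
  · exact (add_comm l (l + m) ▸ h1).symm
  · exact (add_comm m (l + m) ▸ h2).symm
  · exact (two (l + m)).symm

theorem fe_inj {l m : M} (two : ∀ m : M, m + m = 0) (hl : l ≠ 0) (hm : m ≠ 0) (hlm : l ≠ m) {p : F4}
    (h : fe l m p = 0) : p = 0 := by
  cases p
  · rfl
  · exact absurd h hl
  · exact absurd h hm
  · exfalso
    apply hlm
    have h1 : l + m = 0 := h
    have : l = l + (m + m) := by rw [two, add_zero]
    rw [this, ← add_assoc, h1, zero_add]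

/-- the coordinates -/
def E (l m l' m' : M) (x : F4 × F4) : M := fe l m x.1 + fe l' m' x.2

/-- the data of section 5 -/
structure Core (l m l' m' : M) (a a' x : H) : Prop where
  two : ∀ n : M, n + n = 0
  card : Nat.card M = 16
  l0 : l ≠ 0
  m0 : m ≠ 0
  lm : l ≠ m
  lx : l' = x • l
  ax : a' = x * a * x⁻¹
  sq : a * a = 1
  cen : ∀ h : H, h • l = l ↔ h * a = a * h
  al : a • l = l
  am : a • m = m
  al' : a • l' = l' + m
  am' : a • m' = m' + (l + m)
  bl' : a' • l' = l'
  bm' : a' • m' = m'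
  bl : a' • l = l + m'
  bm : a' • m = m + (l' + m')

namespace Core

variable {l m l' m' : M} {a a' x : H}

theorem E_add (c : Core l m l' m' a a' x) (y z : F4 × F4) :
    E l m l' m' (y + z) = E l m l' m' y + E l m l' m' z := by
  unfold E
  rw [Prod.fst_add, Prod.snd_add, fe_add c.two, fe_add c.two]
  abel

theorem E_fst (l m l' m' : M) (p : F4) : E l m l' m' (p, 0) = fe l m p := add_zero _

theorem E_snd (l m l' m' : M) (q : F4) : E l m l' m' (0, q) = fe l' m' q := zero_add _

theorem E_zero (l m l' m' : M) : E l m l' m' 0 = 0 := add_zero 0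

theorem a_fst (c : Core l m l' m' a a' x) (p : F4) : a • fe l m p = fe l m p := by
  cases p
  · exact smul_zero a
  · exact c.al
  · exact c.am
  · change a • (l + m) = l + m
    rw [smul_add, c.al, c.am]

theorem a_snd (c : Core l m l' m' a a' x) (q : F4) :
    a • fe l' m' q = fe l' m' q + fe l m (F4.w * q) := by
  cases q
  · change a • (0 : M) = 0 + 0
    rw [smul_zero, add_zero]
  · exact c.al'
  · exact c.am'
  · change a • (l' + m') = l' + m' + l
    rw [smul_add, c.al', c.am']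
    calc l' + m + (m' + (l + m)) = l' + m' + l + (m + m) := by abel
      _ = l' + m' + l := by rw [c.two, add_zero]

theorem b_snd (c : Core l m l' m' a a' x) (q : F4) : a' • fe l' m' q = fe l' m' q := by
  cases q
  · exact smul_zero a'
  · exact c.bl'
  · exact c.bm'
  · change a' • (l' + m') = l' + m'
    rw [smul_add, c.bl', c.bm']

theorem b_fst (c : Core l m l' m' a a' x) (p : F4) :
    a' • fe l m p = fe l m p + fe l' m' (F4.w * p) := by
  cases p
  · change a' • (0 : M) = 0 + 0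
    rw [smul_zero, add_zero]
  · exact c.bl
  · exact c.bm
  · change a' • (l + m) = l + m + l'
    rw [smul_add, c.bl, c.bm]
    calc l + m' + (m + (l' + m')) = l + m + l' + (m' + m') := by abel
      _ = l + m + l' := by rw [c.two, add_zero]

/-- `h` acts as `A` -/
def Ind (l m l' m' : M) (h : H) (A : SL) : Prop := ∀ y, h • E l m l' m' y = E l m l' m' (ap A y)

theorem ind_a (c : Core l m l' m' a a' x) : Ind l m l' m' a (up F4.w) := by
  intro y
  rw [ap_up]
  unfold E
  rw [smul_add, c.a_fst, c.a_snd, fe_add c.two]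
  abel

theorem ind_b (c : Core l m l' m' a a' x) : Ind l m l' m' a' (lo F4.w) := by
  intro y
  rw [ap_lo]
  unfold E
  rw [smul_add, c.b_fst, c.b_snd, fe_add c.two]
  abel

theorem _root_.Cfsg.Agent.Omega.NO3S.KOne.Five.Core.Ind.mul {g h : H} {A B : SL}
    (hg : Ind l m l' m' g A) (hh : Ind l m l' m' h B) : Ind l m l' m' (g * h) (A * B) := by
  intro y
  rw [mul_smul, hh, hg, ap_mul]

theorem ind_one : Ind l m l' m' (1 : H) 1 := by
  intro y
  rw [one_smul, ap_one]

theorem _root_.Cfsg.Agent.Omega.NO3S.KOne.Five.Core.Ind.inv {g : H} {A : SL}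
    (hg : Ind l m l' m' g A) : Ind l m l' m' g⁻¹ A⁻¹ := by
  intro y
  rw [inv_smul_eq_iff, hg, ap_inv]

theorem _root_.Cfsg.Agent.Omega.NO3S.KOne.Five.Core.Ind.pow {g : H} {A : SL}
    (hg : Ind l m l' m' g A) (n : ℕ) : Ind l m l' m' (g ^ n) (A ^ n) := by
  induction n with
  | zero => rw [pow_zero, pow_zero]; exact ind_one
  | succ n ih => rw [pow_succ, pow_succ]; exact ih.mul hg

theorem ind_d (c : Core l m l' m' a a' x) : Ind l m l' m' (a * a') P := c.ind_a.mul c.ind_b

theorem E_eq_zero (c : Core l m l' m' a a' x) {y : F4 × F4} (h : E l m l' m' y = 0) : y = 0 := by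
  have h1 := c.ind_a y
  rw [h, smul_zero, ap_up] at h1
  have h2 : E l m l' m' (y.1 + F4.w * y.2, y.2) = E l m l' m' y + fe l m (F4.w * y.2) := by
    unfold E
    rw [fe_add c.two]
    abel
  rw [h2, h, zero_add] at h1
  have h3 := fe_inj c.two c.l0 c.m0 c.lm h1.symm
  have h4 : y.2 = 0 := by
    have : F4.w ≠ 0 := by decide
    exact (mul_eq_zero.mp h3).resolve_left this
  have h5 : fe l m y.1 = 0 := by
    have : E l m l' m' y = fe l m y.1 := by
      unfold E
      rw [h4]
      exact add_zero _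
    rw [← this, h]
  exact Prod.ext (fe_inj c.two c.l0 c.m0 c.lm h5) h4

theorem E_inj (c : Core l m l' m' a a' x) : Function.Injective (E l m l' m') := by
  intro y z h
  have h1 : E l m l' m' (y + z) = 0 := by rw [c.E_add, h, c.two]
  have h2 := c.E_eq_zero h1
  have h3 : ∀ y z : F4 × F4, y + z = 0 → y = z := by decide
  exact h3 y z h2

theorem finite (c : Core l m l' m' a a' x) : Finite M := by
  apply Nat.finite_of_card_ne_zero
  rw [c.card]
  norm_num

theorem E_surj (c : Core l m l' m' a a' x) : Function.Surjective (E l m l' m') := by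
  have := c.finite
  refine ((Nat.bijective_iff_injective_and_card _).mpr ⟨c.E_inj, ?_⟩).2
  rw [c.card, Nat.card_eq_fintype_card]
  rfl

/-- `C_M(a)` is the first line -/
theorem fix_iff (c : Core l m l' m' a a' x) (y : F4 × F4) : a • E l m l' m' y = E l m l' m' y ↔ y.2 = 0 := by
  rw [c.ind_a, ap_up, c.E_inj.eq_iff, Prod.ext_iff]
  constructor
  · rintro ⟨h, -⟩
    have h1 : F4.w * y.2 = 0 := by
      have h2 : y.1 + F4.w * y.2 = y.1 := h
      exact add_eq_left.mp h2
    have : F4.w ≠ 0 := by decide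
    exact (mul_eq_zero.mp h1).resolve_left this
  · intro h
    refine ⟨?_, rfl⟩
    change y.1 + F4.w * y.2 = y.1
    rw [h, mul_zero, add_zero]

theorem ind_unique [FaithfulSMul H M] (c : Core l m l' m' a a' x) {g h : H} {A : SL}
    (hg : Ind l m l' m' g A) (hh : Ind l m l' m' h A) : g = h := by
  refine FaithfulSMul.eq_of_smul_eq_smul (α := M) fun n => ?_
  obtain ⟨y, rfl⟩ := c.E_surj n
  rw [hg, hh]

theorem ind_eq (c : Core l m l' m' a a' x) {g : H} {A B : SL}
    (hA : Ind l m l' m' g A) (hB : Ind l m l' m' g B) : A = B := by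
  apply ap_ext
  intro y
  apply c.E_inj
  rw [← hA, ← hB]

theorem l_eq (l m l' m' : M) : E l m l' m' (1, 0) = l := add_zero _

theorem l'_eq (l m l' m' : M) : E l m l' m' (0, 1) = l' := zero_add _

theorem a_conj (c : Core l m l' m' a a' x) : a * (a * a') * a⁻¹ = (a * a')⁻¹ := by
  have h1 : a⁻¹ = a := inv_eq_of_mul_eq_one_right c.sq
  have h2 : a' * a' = 1 := by
    rw [c.ax]
    calc x * a * x⁻¹ * (x * a * x⁻¹) = x * (a * a) * x⁻¹ := by group
      _ = 1 := by rw [c.sq]; group
  have h3 : a'⁻¹ = a' := inv_eq_of_mul_eq_one_right h2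
  rw [mul_inv_rev, h1, h3, ← mul_assoc, c.sq, one_mul]

theorem d_five [FaithfulSMul H M] (c : Core l m l' m' a a' x) : (a * a') ^ 5 = 1 := by
  have h1 := c.ind_d.pow 5
  rw [P_five] at h1
  exact c.ind_unique h1 ind_one

theorem a_pow (c : Core l m l' m' a a' x) (i : ℤ) : a * (a * a') ^ i * a⁻¹ = (a * a') ^ (-i) := by
  rw [← conj_zpow, c.a_conj, zpow_neg, inv_zpow]

theorem not_comm (c : Core l m l' m' a a' x) : a * a' ≠ a' * a := by
  intro e
  have h1 := (c.cen a').mpr e.symm
  rw [c.bl] at h1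
  have h2 : m' = 0 := add_eq_left.mp h1
  have h3 := c.am'
  rw [h2, smul_zero, zero_add] at h3
  have h4 : l + m = 0 := h3.symm
  exact c.lm (by rw [← add_zero l, ← c.two m, ← add_assoc, h4, zero_add])

/-- **section 5, first case**: the orbit of `l` is the orbit under `d` -/
theorem cyc (c : Core l m l' m' a a' x) (ho : ∀ h : H, ∃ i : ℤ, h • l = (a * a') ^ i • l) :
    (zpowers (a * a')).Normal ∧ a * (a * a') ≠ (a * a') * a := by
  set d := a * a' with hd
  have key : ∀ h : H, ∃ i : ℤ, h * a * h⁻¹ = d ^ i * a * (d ^ i)⁻¹ := by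
    intro h
    obtain ⟨i, hi⟩ := ho h
    refine ⟨i, ?_⟩
    have h1 : ((d ^ i)⁻¹ * h) • l = l := by rw [mul_smul, hi, inv_smul_smul]
    have h2 := (c.cen _).mp h1
    calc h * a * h⁻¹ = d ^ i * ((d ^ i)⁻¹ * h * a) * h⁻¹ := by group
      _ = d ^ i * (a * ((d ^ i)⁻¹ * h)) * h⁻¹ := by rw [h2]
      _ = d ^ i * a * (d ^ i)⁻¹ := by group
  have hdn : ∀ h : H, h * d * h⁻¹ ∈ zpowers d := by
    intro h
    obtain ⟨i, hi⟩ := key h
    obtain ⟨j, hj⟩ := key (h * x)
    have e1 : h * d * h⁻¹ = (h * a * h⁻¹) * (h * x * a * (h * x)⁻¹) := by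
      rw [hd, c.ax]; group
    have e2 := c.a_pow (j - i)
    rw [← hd] at e2
    have e3 : a⁻¹ = a := inv_eq_of_mul_eq_one_right c.sq
    rw [e1, hi, hj]
    have e4 : d ^ i * a * (d ^ i)⁻¹ * (d ^ j * a * (d ^ j)⁻¹) = d ^ i * (a * d ^ (j - i) * a⁻¹) * (d ^ j)⁻¹ := by
      rw [e3]
      have : d ^ (j - i) = (d ^ i)⁻¹ * d ^ j := by rw [← zpow_neg, ← zpow_add]; congr 1; ring
      rw [this]; group
    rw [e4, e2]
    exact mul_mem (mul_mem (zpow_mem (mem_zpowers d) i) (zpow_mem (mem_zpowers d) _))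
      (inv_mem (zpow_mem (mem_zpowers d) j))
  refine ⟨⟨fun n hn h => ?_⟩, fun e => ?_⟩
  · obtain ⟨k, rfl⟩ := mem_zpowers_iff.mp hn
    rw [← conj_zpow]
    exact zpow_mem (hdn h) k
  · apply c.not_comm
    have h1 : a * a' = a' * a := by
      rw [hd, ← mul_assoc, c.sq, one_mul] at e
      calc a * a' = a * (a * a' * a) := by rw [← e]
        _ = (a * a) * a' * a := by group
        _ = a' * a := by rw [c.sq, one_mul]
    exact h1

end Core

end mod

end Cfsg.Agent.Omega.NO3S.KOne.Five
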