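import Cfsg.Agent.Omega.NO3S.KOne.FiveIota
import Cfsg.Agent.Omega.NO3S.Fit.Ctxt
import Cfsg.Agent.Omega.NO3S.SLTwo.App
import Cfsg.Agent.Omega.NO3S.TwoOne.Main

/-!
# NO-3S TwoOne (helper881's text #18307), section 5: `|M| = 16` is impossible if `A` centralises `F(H)`

* `Sp l a x` : the S-pair `(l, x l)` in dimension 4, the output of section 4;
* `Sp.core` : the data `Core`;
* `five_false` : section 5 for `One T V z`.
-/

set_option autoImplicit false
set_option linter.unusedSectionVars false

namespace Cfsg.Agent.Omega.NO3S.KOne.Five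

open Subgroup Cfsg Cfsg.Agent.ZN Cfsg.Agent.MinSimple.Geo Cfsg.Agent.Omega.CaseL
open Cfsg.Agent.Omega.NO3S.Fit Cfsg.Agent.Omega.NO3S.TwoOne
open Cfsg.Agent.Lib.FieldFour

universe u

/-- cyclic groups are nilpotent -/
theorem isNilpotent_zp {H : Type*} [Group H] (x : H) : Group.IsNilpotent (zpowers x) := by
  let i : CommGroup (zpowers x) :=
    { (inferInstance : Group (zpowers x)) with
      mul_comm := fun a b => Subtype.ext (by
        obtain ⟨i, hi⟩ := mem_zpowers_iff.mp a.2
        obtain ⟨j, hj⟩ := mem_zpowers_iff.mp b.2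
        change (a : H) * b = b * a
        rw [← hi, ← hj, ← zpow_add, ← zpow_add, add_comm]) }
  exact CommGroup.isNilpotent

section pure

variable {M H : Type*} [AddCommGroup M] [Group H] [DistribMulAction H M]

/-- **the output of section 4**: the S-pair `(l, x • l)`, `a' = x a x⁻¹`, in a module of order 16 -/
structure Sp (l : M) (a x : H) : Prop where
  two : ∀ n : M, n + n = 0
  card : Nat.card M = 16
  sq : a * a = 1
  al : a • l = l
  l0 : l ≠ 0
  cen : ∀ h : H, h • l = l ↔ h * a = a * h
  /-- `C_M(a) = [M, a]` -/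
  fix : ∀ n : M, a • n = n → ∃ k, n = a • k + k
  /-- `C_M(a) ∩ C_M(a') = 0` -/
  dis : ∀ n : M, a • n = n → (x * a * x⁻¹) • n = n → n = 0
  /-- `μ = [l', a] ∉ {0, l}` -/
  s0 : a • x • l + x • l ≠ 0
  s1 : a • x • l + x • l ≠ l
  /-- `μ' = [l, a'] ∉ {0, l'}` -/
  s0' : (x * a * x⁻¹) • l + l ≠ 0
  s1' : (x * a * x⁻¹) • l + l ≠ x • l
  /-- (4.1) : `[μ', a] ∉ {0, l}` -/
  q0 : a • ((x * a * x⁻¹) • l + l) + ((x * a * x⁻¹) • l + l) ≠ 0
  q1 : a • ((x * a * x⁻¹) • l + l) + ((x * a * x⁻¹) • l + l) ≠ l
  /-- (4.1) : `[μ, a'] ∉ {0, l'}` -/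
  q0' : (x * a * x⁻¹) • (a • x • l + x • l) + (a • x • l + x • l) ≠ 0
  q1' : (x * a * x⁻¹) • (a • x • l + x • l) + (a • x • l + x • l) ≠ x • l

/-- `[M, a] = C_M(a)` has order 4 and is `{0, l, m, l + m}` -/
theorem four_of {l m : M} {a : H} (two : ∀ n : M, n + n = 0) (card : Nat.card M = 16)
    (sq : a * a = 1) (fix : ∀ n : M, a • n = n → ∃ k, n = a • k + k) (l0 : l ≠ 0) (al : a • l = l)
    (m0 : m ≠ 0) (ml : m ≠ l) (am : a • m = m) (n : M) (hn : a • n = n) :
    n = 0 ∨ n = l ∨ n = m ∨ n = l + m := by
  have hfin : Finite M := Nat.finite_of_card_ne_zero (by rw [card]; norm_num)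
  have hsub : ∀ k : M, a • k - k = a • k + k := fun k => by
    rw [sub_eq_add_neg, neg_eq_of_add_eq_zero_left (two k)]
  -- the map `k ↦ a k + k`
  let f : M →+ M :=
    { toFun := fun k => a • k + k
      map_zero' := by rw [smul_zero, add_zero]
      map_add' := fun p q => by rw [smul_add]; abel }
  have hker : ∀ k, k ∈ f.ker ↔ a • k = k := by
    intro k
    rw [AddMonoidHom.mem_ker]
    change a • k + k = 0 ↔ _
    constructor
    · intro e
      calc a • k = a • k + (k + k) := by rw [two, add_zero]
        _ = k := by rw [← add_assoc, e, zero_add]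
    · intro e
      rw [e, two]
  have hran : f.range = f.ker := by
    ext k
    rw [hker]
    constructor
    · rintro ⟨p, rfl⟩
      change a • (a • p + p) = a • p + p
      rw [smul_add, ← mul_smul, sq, one_smul, add_comm]
    · intro e
      obtain ⟨p, hp⟩ := fix k e
      exact ⟨p, hp.symm⟩
  have h1 : Nat.card f.ker * Nat.card f.range = 16 := by
    rw [← card, ← Nat.card_congr (QuotientAddGroup.quotientKerEquivRange f).toEquiv, mul_comm]
    exact (AddSubgroup.card_eq_card_quotient_mul_card_addSubgroup _).symm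
  rw [hran] at h1
  have h4 : Nat.card f.ker = 4 := by nlinarith [h1]
  have hml : m ≠ 0 ∧ l ≠ m ∧ l + m ≠ 0 ∧ l + m ≠ l ∧ l + m ≠ m := by
    refine ⟨m0, Ne.symm ml, fun e => ?_, fun e => m0 (add_eq_left.mp e), fun e => l0 (add_eq_right.mp e)⟩
    apply ml
    calc m = l + l + m := by rw [two, zero_add]
      _ = l + (l + m) := by rw [add_assoc]
      _ = l := by rw [e, add_zero]
  classical
  have h5 : ((({0, l, m, l + m} : Finset M) : Set M)) ⊆ (f.ker : Set M) := by
    intro k hk
    simp only [Finset.coe_insert, Finset.coe_singleton, Set.mem_insert_iff, Set.mem_singleton_iff] at hk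
    rw [SetLike.mem_coe, hker]
    rcases hk with rfl | rfl | rfl | rfl
    · exact smul_zero a
    · exact al
    · exact am
    · rw [smul_add, al, am]
  have h6 : ({0, l, m, l + m} : Finset M).card = 4 := by
    rw [Finset.card_insert_of_notMem, Finset.card_insert_of_notMem, Finset.card_insert_of_notMem,
      Finset.card_singleton]
    · rw [Finset.mem_singleton]
      exact fun e => hml.2.2.2.2 e.symm
    · simp only [Finset.mem_insert, Finset.mem_singleton, not_or]
      exact ⟨hml.2.1, fun e => hml.2.2.2.1 e.symm⟩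
    · simp only [Finset.mem_insert, Finset.mem_singleton, not_or]
      exact ⟨Ne.symm l0, Ne.symm m0, fun e => hml.2.2.1 e.symm⟩
  have h7 : (((({0, l, m, l + m} : Finset M) : Set M))) = (f.ker : Set M) := by
    refine Set.eq_of_subset_of_ncard_le h5 ?_ (Set.toFinite _)
    rw [Set.ncard_coe_finset, h6]
    exact h4.le
  have h8 : n ∈ (f.ker : Set M) := (hker n).mpr hn
  rw [← h7] at h8
  simpa only [Finset.coe_insert, Finset.coe_singleton, Set.mem_insert_iff, Set.mem_singleton_iff] using h8

theorem Sp.core {l : M} {a x : H} (s : Sp l a x) :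
    Core l (a • x • l + x • l) (x • l) ((x * a * x⁻¹) • l + l) a (x * a * x⁻¹) x := by
  set m := a • x • l + x • l with hm
  set a' := x * a * x⁻¹ with ha'
  set l' := x • l with hl'
  set m' := a' • l + l with hm'
  have two := s.two
  have cc : ∀ p q : M, p + (p + q) = q := fun p q => by rw [← add_assoc, two, zero_add]
  have cc' : ∀ p q : M, p + q + q = p := fun p q => by rw [add_assoc, two, add_zero]
  have sq' : a' * a' = 1 := by
    rw [ha']
    calc x * a * x⁻¹ * (x * a * x⁻¹) = x * (a * a) * x⁻¹ := by group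
      _ = 1 := by rw [s.sq]; group
  have hbl' : a' • l' = l' := by
    rw [ha', hl', mul_smul, mul_smul, inv_smul_smul, s.al]
  have ham : a • m = m := by rw [hm, smul_add, ← mul_smul, s.sq, one_smul, add_comm]
  have hbm' : a' • m' = m' := by rw [hm', smul_add, ← mul_smul, sq', one_smul, add_comm]
  have hal' : a • l' = l' + m := by
    rw [hm, add_comm (a • l'), cc]
  have hbl : a' • l = l + m' := by
    rw [hm', add_comm (a' • l), cc]
  have fix' : ∀ n : M, a' • n = n → ∃ k, n = a' • k + k := by
    intro n hn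
    have h1 : a • x⁻¹ • n = x⁻¹ • n := by
      rw [ha', mul_smul, mul_smul, ← eq_inv_smul_iff] at hn
      exact hn
    obtain ⟨k, hk⟩ := s.fix _ h1
    refine ⟨x • k, ?_⟩
    rw [ha', mul_smul, mul_smul, inv_smul_smul, ← smul_add, ← hk, smul_inv_smul]
  have hl'0 : l' ≠ 0 := fun e => s.l0 ((smul_eq_zero_iff_eq x).mp e)
  have key1 := four_of two s.card s.sq s.fix s.l0 s.al s.s0 s.s1 ham
  have key2 := four_of two s.card sq' fix' hl'0 hbl' s.s0' s.s1' hbm'
  -- `[m', a] = l + m`
  have hm'l' : m' + l' ≠ 0 := by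
    intro e
    apply s.s1'
    calc m' = m' + l' + l' := (cc' _ _).symm
      _ = l' := by rw [e, zero_add]
  have hml : m + l ≠ 0 := by
    intro e
    apply s.s1
    calc m = m + l + l := (cc' _ _).symm
      _ = l := by rw [e, zero_add]
  have ham' : a • m' = m' + (l + m) := by
    have h1 : a • (a • m' + m') = a • m' + m' := by
      rw [smul_add, ← mul_smul, s.sq, one_smul, add_comm]
    have h2 : a • m' + m' = l + m := by
      rcases key1 _ h1 with e | e | e | e
      · exact absurd e s.q0
      · exact absurd e s.q1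
      · exfalso
        apply hm'l'
        refine s.dis _ ?_ ?_
        · rw [smul_add, hal']
          calc a • m' + (l' + m) = (a • m' + m') + m' + l' + m := by rw [cc']; abel
            _ = m + m' + l' + m := by rw [e]
            _ = m' + l' + (m + m) := by abel
            _ = m' + l' := by rw [two, add_zero]
        · rw [smul_add, ← ha', hbm', hbl']
      · exact e
    rw [← h2, add_comm (a • m'), cc]
  have hbm : a' • m = m + (l' + m') := by
    have h1 : a' • (a' • m + m) = a' • m + m := by
      rw [smul_add, ← mul_smul, sq', one_smul, add_comm]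
    have h2 : a' • m + m = l' + m' := by
      rcases key2 _ h1 with e | e | e | e
      · exact absurd e s.q0'
      · exact absurd e s.q1'
      · exfalso
        apply hml
        refine s.dis _ ?_ ?_
        · rw [smul_add, ham, s.al]
        · rw [← ha', smul_add, hbl]
          calc a' • m + (l + m') = (a' • m + m) + m + l + m' := by rw [cc']; abel
            _ = m' + m + l + m' := by rw [e]
            _ = m + l + (m' + m') := by abel
            _ = m + l := by rw [two, add_zero]
      · exact e
    rw [← h2, add_comm (a' • m), cc]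
  exact
    { two := two
      card := s.card
      l0 := s.l0
      m0 := s.s0
      lm := Ne.symm s.s1
      lx := rfl
      ax := rfl
      sq := s.sq
      cen := s.cen
      al := s.al
      am := ham
      al' := hal'
      am' := ham'
      bl' := hbl'
      bm' := hbm'
      bl := hbl
      bm := hbm }

end pure

variable {G : Type u} [Group G] {T V : Subgroup G} {z : G} {M H : Type u} [AddCommGroup M] [Group H]
  [DistribMulAction H M]

/-- **section 5** -/
theorem false_of_sp [Finite G] [Finite M] [Finite H] [FaithfulSMul H M] (h : One T V z)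
    (core : ∀ U : Subgroup G, IsPGroup 2 U → normalizer (V : Set G) ≤ normalizer (U : Set G) →
      centralizer ({z} : Set G) ≤ normalizer (U : Set G) → U = ⊥)
    (R : MRep V cg z M H) (hc : CenFit R) {y : G} (hy : y ∈ V) (hy1 : y ≠ 1) (hyz : y ≠ z)
    {w : G} (hw : w ∈ ww V cg y) {x : H} (s : Sp (R.pi y) (R.phi w) x) : False := by
  have c := s.core
  have hwi : R.phi w ∈ R.img (ww V cg y) :=
    (R.mem_img (h.fam.ww_le_cf' hy hy1 h.ln.z_mem h.ln.z_ne)).mpr ⟨w, hw, rfl⟩
  -- an element of `T` which moves `m`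
  have hT : ∃ t : H, t • R.pi y = R.pi y ∧
      t • (R.phi w • x • R.pi y + x • R.pi y) = R.pi y + (R.phi w • x • R.pi y + x • R.pi y) := by
    have hsub : R.phi w • x • R.pi y + x • R.pi y = R.phi w • x • R.pi y - x • R.pi y := by
      rw [sub_eq_add_neg, neg_eq_of_add_eq_zero_left (s.two (x • R.pi y))]
    obtain ⟨t, ht, htm⟩ : ∃ t ∈ R.img T, t • (R.phi w • x • R.pi y + x • R.pi y) ≠
        R.phi w • x • R.pi y + x • R.pi y := by
      by_contra hcon
      push Not at hcon
      rw [hsub] at hcon
      rcases R.fix_A h.fam hy hy1 hyz hy hy1 hyz hw hcon with e | e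
      · rw [← hsub] at e; exact s.s0 e
      · rw [← hsub] at e; exact s.s1 e
    have htl := R.img_T_fix h.fam hy hy1 hyz ht
    refine ⟨t, htl, ?_⟩
    have hta := (s.cen t).mp htl
    have h1 : R.phi w • t • (R.phi w • x • R.pi y + x • R.pi y) =
        t • (R.phi w • x • R.pi y + x • R.pi y) := by
      rw [← mul_smul, ← hta, mul_smul, c.am]
    rcases four_of s.two s.card s.sq s.fix s.l0 s.al s.s0 s.s1 c.am _ h1 with e | e | e | e
    · exact absurd ((smul_eq_zero_iff_eq t).mp e) s.s0
    · exfalso
      apply s.s1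
      exact smul_left_cancel t (e.trans htl.symm)
    · exact absurd e htm
    · exact e
  rcases c.main hT with ⟨hn, hne⟩ | ⟨ι, hi, hn, g, hg⟩
  · have hnil : Group.IsNilpotent (zpowers (R.phi w * (x * R.phi w * x⁻¹))) :=
      isNilpotent_zp _
    have h1 := hc _ hn hnil y hy hy1 hyz hwi
    exact hne (mem_centralizer_iff.mp h1 _ (mem_zpowers _)).symm
  · have hchar : CharP F4 2 := CharTwo.of_one_ne_zero_of_two_eq_zero one_ne_zero (by decide)
    obtain ⟨-, -, hcc⟩ := SLTwo.A_of h R core (by rw [F4.natCard]) hi hn hy hy1 hyz ⟨_, hwi, g, hg⟩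
    apply hcc
    rw [eq_bot_iff]
    intro n hn'
    refine AddSubgroup.mem_bot.mpr (s.dis n ?_ ?_)
    · have := SLTwo.comm_cc h R hy hy1 hyz 1 hwi hn'
      rwa [one_mul, inv_one, mul_one] at this
    · exact SLTwo.comm_cc h R hy hy1 hyz x hwi hn'

end Cfsg.Agent.Omega.NO3S.KOne.Five
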