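import Cfsg.Agent.Omega.NO3S.KOne.FiveAbs

/-!
# NO-3S TwoOne (helper881's text #18307), section 5: a module of order 16 (`k = 1`), all vectors are conjugate

`Core.iota` : if all nonzero vectors are conjugate to `l`, then `H` has a normal subgroup `SL₂(4)`, not centralised by `a`;
`Core.main` : both cases.
-/

set_option autoImplicit false
set_option linter.unusedSectionVars false

namespace Cfsg.Agent.Omega.NO3S.KOne.Five

open Cfsg.Agent.Lib.FieldFour Cfsg.Agent.Lib.SL2Mat Subgroup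

variable {M H : Type*} [AddCommGroup M] [Group H] [DistribMulAction H M]

/-- `b` is the conjugate of `a` at `v = h l` -/
def At (l : M) (a : H) (v : M) (b : H) : Prop := ∃ h : H, h • l = v ∧ b = h * a * h⁻¹

namespace Core

variable {l m l' m' : M} {a a' x : H}

theorem at_l (_ : Core l m l' m' a a' x) : At l a l a := ⟨1, one_smul _ _, by group⟩

theorem at_l' (c : Core l m l' m' a a' x) : At l a l' a' := ⟨x, c.lx.symm, c.ax⟩

theorem at_conj {v : M} {b : H} (h : At l a v b) (g : H) : At l a (g • v) (g * b * g⁻¹) := by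
  obtain ⟨k, rfl, rfl⟩ := h
  exact ⟨g * k, mul_smul _ _ _, by group⟩

theorem at_cen (c : Core l m l' m' a a' x) {v : M} {b : H} (h : At l a v b) (g : H) :
    g • v = v ↔ g * b = b * g := by
  obtain ⟨k, rfl, rfl⟩ := h
  have h1 := c.cen (k⁻¹ * g * k)
  have e1 : g • k • l = k • l ↔ (k⁻¹ * g * k) • l = l := by
    rw [mul_smul, mul_smul, inv_smul_eq_iff]
  rw [e1, h1]
  constructor
  · intro e
    calc g * (k * a * k⁻¹) = k * (k⁻¹ * g * k * a) * k⁻¹ := by group
      _ = k * (a * (k⁻¹ * g * k)) * k⁻¹ := by rw [e]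
      _ = k * a * k⁻¹ * g := by group
  · intro e
    calc k⁻¹ * g * k * a = k⁻¹ * (g * (k * a * k⁻¹)) * k := by group
      _ = k⁻¹ * (k * a * k⁻¹ * g) * k := by rw [e]
      _ = a * (k⁻¹ * g * k) := by group

theorem at_unique (c : Core l m l' m' a a' x) {v : M} {b b' : H} (h : At l a v b) (h' : At l a v b') :
    b = b' := by
  obtain ⟨k, hk, rfl⟩ := h
  obtain ⟨k', hk', rfl⟩ := h'
  have h1 : (k'⁻¹ * k) • l = l := by rw [mul_smul, hk, ← hk', inv_smul_smul]
  have h2 := (c.cen _).mp h1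
  calc k * a * k⁻¹ = k' * (k'⁻¹ * k * a) * k⁻¹ := by group
    _ = k' * (a * (k'⁻¹ * k)) * k⁻¹ := by rw [h2]
    _ = k' * a * k'⁻¹ := by group

theorem at_inj (c : Core l m l' m' a a' x) {v v' : M} {b : H} (h : At l a v b) (h' : At l a v' b) :
    v = v' := by
  obtain ⟨k, rfl, e⟩ := h
  obtain ⟨k', rfl, e'⟩ := h'
  have h1 : (k'⁻¹ * k) * a = a * (k'⁻¹ * k) := by
    rw [e] at e'
    calc k'⁻¹ * k * a = k'⁻¹ * (k * a * k⁻¹) * k := by group
      _ = k'⁻¹ * (k' * a * k'⁻¹) * k := by rw [e']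
      _ = a * (k'⁻¹ * k) := by group
  have h2 := (c.cen _).mpr h1
  rw [mul_smul, inv_smul_eq_iff] at h2
  exact h2

theorem at_sq (c : Core l m l' m' a a' x) {v : M} {b : H} (h : At l a v b) : b * b = 1 := by
  obtain ⟨k, -, rfl⟩ := h
  calc k * a * k⁻¹ * (k * a * k⁻¹) = k * (a * a) * k⁻¹ := by group
    _ = 1 := by rw [c.sq]; group

theorem at_ne (c : Core l m l' m' a a' x) {v : M} {b : H} (h : At l a v b) : b ≠ 1 := by
  obtain ⟨k, -, rfl⟩ := h
  intro e
  have h1 : a = 1 := conj_eq_one_iff.mp e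
  apply c.not_comm
  rw [h1, mul_one, one_mul]

theorem at_v_ne (c : Core l m l' m' a a' x) {v : M} {b : H} (h : At l a v b) : v ≠ 0 := by
  obtain ⟨k, rfl, -⟩ := h
  intro e
  exact c.l0 ((smul_eq_zero_iff_eq k).mp e)

theorem at_fix_self (c : Core l m l' m' a a' x) {v : M} {b : H} (h : At l a v b) : b • v = v :=
  (c.at_cen h b).mpr rfl

/-- `C_M(b) = C_M(a)` for `u ∈ C_M(a)` -/
theorem fix_first (c : Core l m l' m' a a' x) {t : F4} {b : H}
    (h : At l a (E l m l' m' (t, 0)) b) (y : F4 × F4) :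
    b • E l m l' m' y = E l m l' m' y ↔ y.2 = 0 := by
  rw [← c.fix_iff y]
  by_cases ht : t = 1
  · rw [ht, l_eq] at h
    rw [c.at_unique h c.at_l]
  -- `b` fixes the first line
  have h1 : a • E l m l' m' (t, 0) = E l m l' m' (t, 0) := (c.fix_iff (t, 0)).mpr rfl
  have h2 : a * b = b * a := (c.at_cen h a).mp h1
  have h3 : b • l = l := (c.cen b).mpr h2.symm
  have ht0 : t ≠ 0 := by
    rintro rfl
    exact c.at_v_ne h (E_zero l m l' m')
  have h4 : b • fe l m t = fe l m t := by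
    have := c.at_fix_self h
    rwa [E_fst] at this
  have h5 : ∀ p : F4, b • fe l m p = fe l m p := by
    have h6 : ∀ p t : F4, t ≠ 0 → t ≠ 1 → p = 0 ∨ p = 1 ∨ p = t ∨ p = 1 + t := by decide
    intro p
    rcases h6 p t ht0 ht with e | e | e | e
    · rw [e]; exact smul_zero b
    · rw [e]; exact h3
    · rw [e]; exact h4
    · rw [e, fe_add c.two, smul_add, h4]
      have : b • fe l m 1 = fe l m 1 := h3
      rw [this]
  have key : ∀ p : F4, b • E l m l' m' (p, 0) = E l m l' m' (p, 0) := by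
    intro p
    rw [E_fst]
    exact h5 p
  obtain ⟨k, hk, rfl⟩ := h
  -- `k⁻¹` maps the first line onto itself
  have h7 : ∀ n : M, (k * a * k⁻¹) • n = n ↔ a • k⁻¹ • n = k⁻¹ • n := by
    intro n
    rw [mul_smul, mul_smul, ← eq_inv_smul_iff]
  have h8 : ∀ p : F4, ∃ q : F4, k⁻¹ • E l m l' m' (p, 0) = E l m l' m' (q, 0) := by
    intro p
    have h9 := (h7 _).mp (key p)
    obtain ⟨z, hz⟩ := c.E_surj (k⁻¹ • E l m l' m' (p, 0))
    rw [← hz] at h9
    have h10 := (c.fix_iff z).mp h9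
    refine ⟨z.1, ?_⟩
    rw [← hz]
    congr 1
    exact Prod.ext rfl h10
  choose σ hσ using h8
  have hinj : Function.Injective σ := by
    intro p q e
    have h9 := hσ p
    rw [e, ← hσ q] at h9
    have h10 := c.E_inj (smul_left_cancel _ h9)
    exact (Prod.ext_iff.mp h10).1
  have hsurj := Finite.surjective_of_injective hinj
  constructor
  · intro h9
    have h10 := (h7 _).mp h9
    obtain ⟨z, hz⟩ := c.E_surj (k⁻¹ • E l m l' m' y)
    rw [← hz] at h10
    have h11 := (c.fix_iff z).mp h10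
    obtain ⟨p, hp⟩ := hsurj z.1
    have h12 : E l m l' m' y = E l m l' m' (p, 0) := by
      have h13 : k⁻¹ • E l m l' m' y = k⁻¹ • E l m l' m' (p, 0) := by
        rw [hσ p, hp, ← hz]
        congr 1
        exact Prod.ext rfl h11
      exact smul_left_cancel _ h13
    rw [h12]
    exact (c.fix_iff (p, 0)).mpr rfl
  · intro h9
    have h10 := (c.fix_iff y).mp h9
    have h11 : y = (y.1, 0) := Prod.ext rfl h10
    rw [h11]
    exact key y.1

/-- `C_M(b)` is the `F₄`-line of `v` -/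
theorem fix_line (c : Core l m l' m' a a' x) {z : F4 × F4} {b : H} (h : At l a (E l m l' m' z) b)
    (y : F4 × F4) : b • E l m l' m' y = E l m l' m' y ↔ ∃ s : F4, y = sm s z := by
  have hz : z ≠ 0 := by
    rintro rfl
    exact c.at_v_ne h (E_zero l m l' m')
  obtain ⟨i, t, ht, rfl⟩ := exists_pow z hz
  set d := a * a' with hd
  have hdi : Ind l m l' m' (d ^ i) (P ^ i) := c.ind_d.pow i
  have h1 : At l a (E l m l' m' (t, 0)) ((d ^ i)⁻¹ * b * (d ^ i)⁻¹⁻¹) := by
    have := at_conj h (d ^ i)⁻¹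
    rwa [← hdi, inv_smul_smul] at this
  have h2 := c.fix_first h1 (ap (P ^ i)⁻¹ y)
  have h3 : E l m l' m' y = d ^ i • E l m l' m' (ap (P ^ i)⁻¹ y) := by rw [hdi, ap_inv]
  have h4 : b • E l m l' m' y = E l m l' m' y ↔
      ((d ^ i)⁻¹ * b * (d ^ i)⁻¹⁻¹) • E l m l' m' (ap (P ^ i)⁻¹ y) = E l m l' m' (ap (P ^ i)⁻¹ y) := by
    rw [h3, inv_inv, mul_smul, mul_smul, inv_smul_eq_iff]
  rw [h4, h2]
  constructor
  · intro h5
    refine ⟨(ap (P ^ i)⁻¹ y).1 * t⁻¹, ?_⟩
    rw [← ap_sm]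
    have h6 : sm ((ap (P ^ i)⁻¹ y).1 * t⁻¹) (t, 0) = ap (P ^ i)⁻¹ y := by
      unfold sm
      refine Prod.ext ?_ ?_
      · change (ap (P ^ i)⁻¹ y).1 * t⁻¹ * t = (ap (P ^ i)⁻¹ y).1
        rw [mul_assoc, inv_mul_cancel₀ ht, mul_one]
      · change (ap (P ^ i)⁻¹ y).1 * t⁻¹ * 0 = (ap (P ^ i)⁻¹ y).2
        rw [mul_zero, h5]
    rw [h6, ap_inv]
  · rintro ⟨s, rfl⟩
    rw [← ap_sm, ap_inv']
    change s * 0 = 0
    exact mul_zero s

/-- the elements at the first line are upper transvections -/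
theorem ind_first (c : Core l m l' m' a a' x) {t : F4} {b : H} (h : At l a (E l m l' m' (t, 0)) b) :
    ∃ s : F4, Ind l m l' m' b (up s) := by
  have hfix : ∀ p : F4, b • fe l m p = fe l m p := by
    intro p
    have := (c.fix_first h (p, 0)).mpr rfl
    rwa [E_fst] at this
  -- `b n + n ∈ C_M(b)`
  have hcm : ∀ n : M, ∃ q : F4, b • n = n + fe l m q := by
    intro n
    obtain ⟨z, hz⟩ := c.E_surj (b • n + n)
    have h1 : b • (b • n + n) = b • n + n := by
      rw [smul_add, ← mul_smul, c.at_sq h, one_smul, add_comm]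
    rw [← hz] at h1
    have h2 := (c.fix_first h z).mp h1
    refine ⟨z.1, ?_⟩
    have h3 : E l m l' m' z = fe l m z.1 := by
      unfold E
      rw [h2]
      exact add_zero _
    rw [← h3, hz]
    calc b • n = b • n + (n + n) := by rw [c.two, add_zero]
      _ = n + (b • n + n) := by abel
  obtain ⟨s, hs⟩ := hcm l'
  have hs' : b • l' = E l m l' m' (s, 1) := by
    rw [hs, add_comm]
    rfl
  have h1 := at_conj c.at_l' b
  rw [hs'] at h1
  have key : ∀ q : F4, b • fe l' m' q = fe l' m' q + fe l m (s * q) := by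
    intro q
    obtain ⟨r, hr⟩ := hcm (fe l' m' q)
    have h2 : b • fe l' m' q = E l m l' m' (r, q) := by
      rw [hr, add_comm]
      rfl
    have h3 : (b * a' * b⁻¹) • E l m l' m' (r, q) = E l m l' m' (r, q) := by
      rw [← h2, mul_smul, mul_smul, inv_smul_smul, c.b_snd]
    obtain ⟨u, hu⟩ := (c.fix_line h1 (r, q)).mp h3
    have h4 : q = u := by
      have : q = u * 1 := (Prod.ext_iff.mp hu).2
      rwa [mul_one] at this
    have h5 : r = u * s := (Prod.ext_iff.mp hu).1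
    rw [hr, h5, ← h4, mul_comm q s]
  refine ⟨s, fun y => ?_⟩
  rw [ap_up]
  unfold E
  rw [smul_add, hfix, key, fe_add c.two]
  abel

section all

variable [FaithfulSMul H M] (c : Core l m l' m' a a' x) (hall : ∀ n : M, n ≠ 0 → ∃ h : H, h • l = n)
include c hall

theorem exists_at {n : M} (hn : n ≠ 0) : ∃ b, At l a n b := by
  obtain ⟨h, hh⟩ := hall n hn
  exact ⟨h * a * h⁻¹, h, hh, rfl⟩

/-- all upper transvections occur -/
theorem exists_up (s : F4) (hs : s ≠ 0) : ∃ v b, At l a v b ∧ Ind l m l' m' b (up s) := by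
  have h1 : ∀ t : {t : F4 // t ≠ 0}, ∃ b, At l a (E l m l' m' (t.1, 0)) b := by
    intro t
    refine c.exists_at hall fun e => t.2 ?_
    have := c.E_eq_zero e
    exact (Prod.ext_iff.mp this).1
  choose b hb using h1
  have h2 : ∀ t : {t : F4 // t ≠ 0}, ∃ s : {t : F4 // t ≠ 0}, Ind l m l' m' (b t) (up s.1) := by
    intro t
    obtain ⟨s, hs⟩ := c.ind_first (hb t)
    refine ⟨⟨s, ?_⟩, hs⟩
    rintro rfl
    rw [up_zero] at hs
    exact c.at_ne (hb t) (c.ind_unique hs ind_one)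
  choose σ hσ using h2
  have hinj : Function.Injective σ := by
    intro t t' e
    have h3 := hσ t
    rw [e] at h3
    have h4 : b t = b t' := c.ind_unique h3 (hσ t')
    have h5 := hb t
    rw [h4] at h5
    have h6 := c.E_inj (c.at_inj h5 (hb t'))
    exact Subtype.ext (Prod.ext_iff.mp h6).1
  obtain ⟨t, ht⟩ := Finite.surjective_of_injective hinj ⟨s, hs⟩
  refine ⟨_, b t, hb t, ?_⟩
  have := hσ t
  rwa [ht] at this

/-- all elements of `SL₂(4)` are induced by elements of `⟨a^H⟩` -/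
theorem exists_ind (A : SL) : ∃ h ∈ closure {b : H | ∃ v, At l a v b}, Ind l m l' m' h A := by
  set N := closure {b : H | ∃ v, At l a v b} with hN
  have hup : ∀ s : F4, ∃ h ∈ N, Ind l m l' m' h (up s) := by
    intro s
    by_cases hs : s = 0
    · rw [hs, up_zero]
      exact ⟨1, one_mem _, ind_one⟩
    · obtain ⟨v, b, hb, h⟩ := c.exists_up hall s hs
      exact ⟨b, subset_closure ⟨v, hb⟩, h⟩
  have hd : a * a' ∈ N := mul_mem (subset_closure ⟨_, c.at_l⟩) (subset_closure ⟨_, c.at_l'⟩)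
  have hlo : ∀ s : F4, ∃ h ∈ N, Ind l m l' m' h (lo s) := by
    intro s
    obtain ⟨h, hh, hi⟩ := hup s
    have h2 := c.ind_d.pow 2
    refine ⟨(a * a') ^ 2 * h * ((a * a') ^ 2)⁻¹, mul_mem (mul_mem (pow_mem hd 2) hh) (inv_mem (pow_mem hd 2)), ?_⟩
    rw [lo_eq]
    exact (h2.mul hi).mul h2.inv
  obtain ⟨p, q, r, s, rfl⟩ := exists_up_lo A
  obtain ⟨h1, k1, i1⟩ := hup p
  obtain ⟨h2, k2, i2⟩ := hlo q
  obtain ⟨h3, k3, i3⟩ := hup r
  obtain ⟨h4, k4, i4⟩ := hlo s
  exact ⟨h1 * h2 * h3 * h4, mul_mem (mul_mem (mul_mem k1 k2) k3) k4, ((i1.mul i2).mul i3).mul i4⟩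

/-- every `b ∈ a^H` is in `SL₂(4)` -/
theorem at_ind {v : M} {b : H} (h : At l a v b) : ∃ A : SL, Ind l m l' m' b A := by
  obtain ⟨z, rfl⟩ := c.E_surj v
  have hz : z ≠ 0 := by
    rintro rfl
    exact c.at_v_ne h (E_zero l m l' m')
  obtain ⟨i, t, ht, rfl⟩ := exists_pow z hz
  have hdi : Ind l m l' m' ((a * a') ^ i) (P ^ i) := c.ind_d.pow i
  have h1 : At l a (E l m l' m' (t, 0)) (((a * a') ^ i)⁻¹ * b * ((a * a') ^ i)⁻¹⁻¹) := by
    have := at_conj h ((a * a') ^ i)⁻¹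
    rwa [← hdi, inv_smul_smul] at this
  obtain ⟨s, hs⟩ := c.ind_first h1
  refine ⟨P ^ i * up s * (P ^ i)⁻¹, ?_⟩
  have h2 := (hdi.mul hs).mul hdi.inv
  have e : (a * a') ^ i * (((a * a') ^ i)⁻¹ * b * ((a * a') ^ i)⁻¹⁻¹) * ((a * a') ^ i)⁻¹ = b := by group
  rwa [e] at h2

/-- **section 5, second case** -/
theorem iota : ∃ ι : SL →* H, Function.Injective ι ∧ ι.range.Normal ∧ ∃ g, a * ι g ≠ ι g * a := by
  set N := closure {b : H | ∃ v, At l a v b} with hN
  choose f hf hf' using c.exists_ind hall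
  let ι : SL →* H :=
    { toFun := f
      map_one' := c.ind_unique (hf' 1) ind_one
      map_mul' := fun A B => c.ind_unique (hf' (A * B)) ((hf' A).mul (hf' B)) }
  have hι : ∀ A, Ind l m l' m' (ι A) A := hf'
  have hle : N ≤ ι.range := by
    refine (closure_le _).mpr ?_
    rintro b ⟨v, hb⟩
    obtain ⟨A, hA⟩ := c.at_ind hall hb
    exact ⟨A, c.ind_unique (hι A) hA⟩
  have heq : ι.range = N := le_antisymm (by rintro _ ⟨A, rfl⟩; exact hf A) hle
  refine ⟨ι, ?_, ?_, lo F4.w, ?_⟩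
  · intro A B e
    have h1 := hι A
    rw [e] at h1
    exact c.ind_eq h1 (hι B)
  · rw [heq]
    refine ⟨fun n hn g => ?_⟩
    have h1 : N ≤ N.comap (MulAut.conj g).toMonoidHom := by
      refine (closure_le _).mpr ?_
      rintro b ⟨v, hb⟩
      exact subset_closure ⟨_, at_conj hb g⟩
    exact h1 hn
  · rw [c.ind_unique (hι (lo F4.w)) c.ind_b]
    exact c.not_comm

end all

/-- **section 5** -/
theorem main [FaithfulSMul H M] (c : Core l m l' m' a a' x) (ht : ∃ t : H, t • l = l ∧ t • m = l + m) :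
    ((zpowers (a * a')).Normal ∧ a * (a * a') ≠ (a * a') * a) ∨
      ∃ ι : SL →* H, Function.Injective ι ∧ ι.range.Normal ∧ ∃ g, a * ι g ≠ ι g * a := by
  have hdi : ∀ i : ℕ, Ind l m l' m' ((a * a') ^ i) (P ^ i) := fun i => c.ind_d.pow i
  obtain ⟨t, ht1, ht2⟩ := ht
  by_cases hm : ∃ h : H, h • l = m
  · right
    refine c.iota fun n hn => ?_
    obtain ⟨z, rfl⟩ := c.E_surj n
    have hz : z ≠ 0 := by
      rintro rfl
      exact hn (E_zero l m l' m')
    obtain ⟨i, p, hp, rfl⟩ := exists_pow z hz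
    obtain ⟨h, hh⟩ := hm
    have h1 : ∃ k : H, k • l = E l m l' m' (p, 0) := by
      rw [E_fst]
      cases p
      · exact absurd rfl hp
      · exact ⟨1, one_smul _ _⟩
      · exact ⟨h, hh⟩
      · exact ⟨t * h, by rw [mul_smul, hh, ht2]; rfl⟩
    obtain ⟨k, hk⟩ := h1
    exact ⟨(a * a') ^ i * k, by rw [mul_smul, hk, hdi]⟩
  · left
    apply c.cyc
    intro h
    obtain ⟨z, hz⟩ := c.E_surj (h • l)
    have hz0 : z ≠ 0 := by
      rintro rfl
      rw [E_zero] at hz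
      exact c.l0 ((smul_eq_zero_iff_eq h).mp hz.symm)
    obtain ⟨i, p, hp, rfl⟩ := exists_pow z hz0
    refine ⟨(i : ℤ), ?_⟩
    rw [← hdi, E_fst] at hz
    rw [zpow_natCast]
    cases p
    · exact absurd rfl hp
    · exact hz.symm
    · exfalso
      refine hm ⟨((a * a') ^ i)⁻¹ * h, ?_⟩
      rw [mul_smul, ← hz, inv_smul_smul]
      rfl
    · exfalso
      refine hm ⟨t⁻¹ * (((a * a') ^ i)⁻¹ * h), ?_⟩
      rw [mul_smul, mul_smul, ← hz, inv_smul_smul, inv_smul_eq_iff, ht2]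
      rfl

end Core

end Cfsg.Agent.Omega.NO3S.KOne.Five
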