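import Cfsg.Agent.Omega.NO3S.TwoOne.LThreeA
import Cfsg.Agent.Omega.NO3S.TwoOne.Plane

/-!
# NO-3S, `q = 2`, `n = 1`, no `λ`-transvections: relations between two lines
(helper881 #17145 (3.0)-(3.2), helper225 #17919 (0.1), (0.2))

* `One.comm_move` (3.0); `One.dd_comm_mem` (3.1); `One.dd_split`, `One.dd_le_sup` (3.2);
* `NT.beta` : `|A| = 2`: `[w, w'] ∉ V` for `w ∈ W_p - E_p`, `w' ∈ W_q - E_q`;
* `One.ee_moves` : `|A| = 2`: `r ∈ E_q - D_q` moves `y` iff `y ∉ E_z(L)`;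
* `One.sym_pair` (0.1); `One.ii_le_ee_of_plane` (0.2).
-/

set_option autoImplicit false
set_option linter.unusedSectionVars false

namespace Cfsg.Agent.Omega.NO3S.TwoOne

open Subgroup Cfsg Cfsg.Agent.ZN Cfsg.Agent.MinSimple.Geo Cfsg.Agent.Omega.CaseL
open Cfsg.Agent.ZN.Block (conj_mem_of_normalizer conj_mem_of_normalizer' le_normalizer_of_forall
  mem_normalizer_of)
open scoped commutatorElement

universe u

variable {G : Type u} [Group G]

/-- the members of a line class have the same `ws` -/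
theorem ws_of_lines {V L : Subgroup G} {z : G} (hL : L ∈ lines V z) (x : G) : ws L x = ws V x := by
  obtain ⟨⟨g, rfl⟩, -⟩ := hL
  exact ws_cj V g x

/-- the members of a line class have the same `kq` -/
theorem kq_of_lines {V L : Subgroup G} {z : G} (hL : L ∈ lines V z) (x : G) : kq L x = kq V x := by
  obtain ⟨⟨g, rfl⟩, -⟩ := hL
  exact kq_cj V g x

namespace One

variable {T V : Subgroup G} {z p q r : G}

/-- **(3.0)** -/
theorem comm_move (h : One T V z) {g w : G} (hp : p ∈ V) (hp1 : p ≠ 1) (hpz : p ≠ z)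
    (hg : g * p * g⁻¹ = z * p) (hw : w ∈ ws V p) (hc : g * w = w * g) : w ∈ ii V := by
  have hz := h.ln.z_mem
  have hzp : z * p ∈ V := mul_mem hz hp
  have hzp1 : z * p ≠ 1 := h.mul_ne_one hp (Ne.symm hpz)
  have hzpp : z * p ≠ p := fun e => h.ln.z_ne (mul_eq_right.mp e)
  refine h.mem_ii hp hp1 hzp hzp1 hzpp hw ?_
  have h1 := conj_mem_ws g hw
  rw [hg, conj_eq_of_comm hc] at h1
  exact h1

/-- **(3.1)** -/
theorem dd_comm_mem (h : One T V z) {L : Subgroup G} (hL : L ∈ lines V z) {y y' e g d : G} (hy : y ∈ V)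
    (hy1 : y ≠ 1) (hyz : y ≠ z) (hy' : y' ∈ L) (hy1' : y' ≠ 1) (hyz' : y' ≠ z) (he : e ∈ ee L y')
    (hey : e * y * e⁻¹ = z * y) (hg : ∀ q ∈ V, q ≠ 1 → ∀ d ∈ dd V q, g * d = d * g)
    (hgy : g * y' * g⁻¹ = z * y') (hd : d ∈ dd V y) :
    d * (e * d * e⁻¹) ∈ ii L ∧ d * (e * d * e⁻¹) ∈ dd V z ∧ e * d * e⁻¹ ∈ dd V (z * y) := by
  have hz := h.ln.z_mem
  have hz1 := h.ln.z_ne
  obtain ⟨-, -, T', h'⟩ := h.of_line hL hz1
  have hek : e ∈ kq V z := by
    have := he.2 z h'.ln.z_mem hz1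
    rwa [kq_of_lines hL] at this
  have heV : e ∈ normalizer (V : Set G) := h.kq_le_normalizer hz hz1 hek
  have hzy : z * y ∈ V := mul_mem hz hy
  have hzy1 : z * y ≠ 1 := h.mul_ne_one hy (Ne.symm hyz)
  have hd' : e * d * e⁻¹ ∈ dd V (z * y) := by
    have := conj_mem_dd heV hd
    rwa [hey] at this
  have hdd : d * d = 1 := h.sq hy hy1 _ hd.1
  -- the product is in `W_{y'}`
  have hdz : ∀ w ∈ ws V z, d * w = w * d := hd.2 z hz hz1
  have hLws : L ≤ ws V z := le_ws hL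
  have hdc : d * y' = y' * d := hdz y' (hLws hy')
  have hmem : d * (e * d * e⁻¹) ∈ ws L y' := by
    have h1 := conj_mem_ws (V := L) d he.1
    rw [conj_eq_of_comm hdc] at h1
    have h2 := mul_mem h1 (inv_mem he.1)
    have e1 : d * (e * d * e⁻¹) = d * e * d⁻¹ * e⁻¹ := by
      have : d⁻¹ = d := inv_eq_self hdd
      rw [this]; group
    rw [e1]; exact h2
  have hgc : g * (d * (e * d * e⁻¹)) = d * (e * d * e⁻¹) * g := by
    have h1 := hg y hy hy1 d hd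
    have h2 := hg _ hzy hzy1 _ hd'
    exact comm_mul_of h1.symm.symm h2
  have hii : d * (e * d * e⁻¹) ∈ ii L := h'.comm_move hy' hy1' hyz' hgy hmem hgc
  refine ⟨hii, ⟨?_, ?_⟩, hd'⟩
  · have := ii_le h'.ln.z_mem hz1 hii
    rwa [ws_of_lines hL] at this
  · intro q hq hq1 b hb
    exact mul_comm_of (hd.2 q hq hq1 b hb) (hd'.2 q hq hq1 b hb)

/-- **(3.2)** -/
theorem dd_split [Finite G] (h : One T V z) {L : Subgroup G} (hL : L ∈ lines V z) {y y' e g : G} (hy : y ∈ V)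
    (hy1 : y ≠ 1) (hyz : y ≠ z) (hy' : y' ∈ L) (hy1' : y' ≠ 1) (hyz' : y' ≠ z) (he : e ∈ ee L y')
    (hey : e * y * e⁻¹ = z * y) (hg : ∀ q ∈ V, q ≠ 1 → ∀ d ∈ dd V q, g * d = d * g)
    (hgy : g * y' * g⁻¹ = z * y') {w : G} (hw : w ∈ dd V z) :
    ∃ d ∈ dd V y, w⁻¹ * (d * (e * d * e⁻¹)) ∈ ii V := by
  classical
  have hz := h.ln.z_mem
  have hz1 := h.ln.z_ne
  have hzy : z * y ∈ V := mul_mem hz hy
  have hzy1 : z * y ≠ 1 := h.mul_ne_one hy (Ne.symm hyz)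
  have key : ∀ d ∈ dd V y, d * (e * d * e⁻¹) ∈ dd V z ∧ e * d * e⁻¹ ∈ dd V (z * y) := fun d hd =>
    (h.dd_comm_mem hL hy hy1 hyz hy' hy1' hyz' he hey hg hgy hd).2
  -- the homomorphism `d ↦ d (e d e⁻¹)`
  let f : dd V y →* dd V z :=
    { toFun := fun d => ⟨(d : G) * (e * d * e⁻¹), (key d d.2).1⟩
      map_one' := Subtype.ext (by simp)
      map_mul' := by
        intro a b
        apply Subtype.ext
        have h1 : (e * (a : G) * e⁻¹) * b = b * (e * a * e⁻¹) :=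
          (key a a.2).2.2 y hy hy1 b b.2.1
        change (a : G) * b * (e * (a * b) * e⁻¹) = a * (e * a * e⁻¹) * (b * (e * b * e⁻¹))
        calc (a : G) * b * (e * (a * b) * e⁻¹) = a * (b * (e * a * e⁻¹)) * (e * b * e⁻¹) := by group
          _ = a * ((e * a * e⁻¹) * b) * (e * b * e⁻¹) := by rw [h1]
          _ = a * (e * a * e⁻¹) * (b * (e * b * e⁻¹)) := by group }
  set K : Subgroup (dd V z) := (ii V).subgroupOf (dd V z) with hK
  have hKn : K.Normal := by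
    refine ⟨fun n hn g => ?_⟩
    have hc : g * n * g⁻¹ = n := by
      apply Subtype.ext
      have := g.2.2 z hz hz1 n n.2.1
      exact conj_eq_of_comm this
    rw [hc]; exact hn
  have h1 : K.comap f ≤ (ii V).subgroupOf (dd V y) := by
    intro d hd
    rw [mem_comap, hK, mem_subgroupOf] at hd
    rw [mem_subgroupOf]
    have hd' : (d : G) * (e * d * e⁻¹) ∈ ii V := hd
    -- `e d e⁻¹ ∈ W_y ∩ W_{zy}`
    have h2 : e * (d : G) * e⁻¹ ∈ ws V y := by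
      have h3 := mul_mem (inv_mem d.2.1) (ii_le hy hy1 hd')
      have e1 : (d : G)⁻¹ * (d * (e * d * e⁻¹)) = e * d * e⁻¹ := by group
      rwa [e1] at h3
    have hzyy : z * y ≠ y := fun e => hz1 (mul_eq_right.mp e)
    have h3 : e * (d : G) * e⁻¹ ∈ ii V := h.mem_ii hy hy1 hzy hzy1 hzyy h2 (key d d.2).2.1
    have h4 := mul_mem hd' (inv_mem h3)
    have e2 : (d : G) * (e * d * e⁻¹) * (e * d * e⁻¹)⁻¹ = d := by group
    rwa [e2] at h4
  have h2 : (K.comap f).index = K.relIndex f.range := index_comap _ _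
  have h3 : ((ii V).subgroupOf (dd V y)).index ∣ (K.comap f).index := index_dvd_of_le h1
  have h4 : ((ii V).subgroupOf (dd V y)).index = K.index := by
    have := h.relIndex_conj (fun _ => ii V) (dd V)
      (fun g hg p w hw => conj_mem_of_normalizer (normalizer_le_normalizer_ii V) hg hw)
      (fun g hg p w hw => conj_mem_dd hg hw) hy hy1 hz hz1
    exact this
  have h5 : K.relIndex f.range = K.relIndex (f.range ⊔ K) := (relIndex_sup_right _ _).symm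
  have h6 : K.relIndex (f.range ⊔ K) * (f.range ⊔ K).index = K.index := relIndex_mul_index le_sup_right
  have hK0 : K.index ≠ 0 := index_ne_zero_of_finite
  have h7 : (f.range ⊔ K).index = 1 := by
    have h8 : K.index ≤ K.relIndex (f.range ⊔ K) := by
      rw [← h5, ← h2, ← h4]
      refine Nat.le_of_dvd (Nat.pos_of_ne_zero ?_) h3
      rw [h2, h5]
      intro h9
      rw [h9, zero_mul] at h6
      exact hK0 h6.symm
    have h9 : (f.range ⊔ K).index ≠ 0 := fun h10 => by rw [h10, mul_zero] at h6; exact hK0 h6.symm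
    have h10 : 0 < K.index := Nat.pos_of_ne_zero hK0
    by_contra h11
    have h12 : 2 ≤ (f.range ⊔ K).index := by omega
    have := Nat.mul_le_mul h8 h12
    rw [h6] at this
    omega
  have h8 : (⟨w, hw⟩ : dd V z) ∈ f.range ⊔ K := by
    rw [index_eq_one.mp h7]
    exact mem_top _
  rw [mem_sup_of_normal_right] at h8
  obtain ⟨a, ⟨d, rfl⟩, k, hk, hak⟩ := h8
  refine ⟨d, d.2, ?_⟩
  have h9 : (d : G) * (e * d * e⁻¹) * k = w := congrArg Subtype.val hak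
  have hk' : (k : G) ∈ ii V := hk
  have e1 : w⁻¹ * ((d : G) * (e * d * e⁻¹)) = (k : G)⁻¹ := by
    rw [← h9]; group
  rw [e1]
  exact inv_mem hk'

/-- **(3.2)**: `D_z = I (D_z ∩ I_L)` -/
theorem dd_le_sup [Finite G] (h : One T V z) {L : Subgroup G} (hL : L ∈ lines V z) {y y' e g : G} (hy : y ∈ V)
    (hy1 : y ≠ 1) (hyz : y ≠ z) (hy' : y' ∈ L) (hy1' : y' ≠ 1) (hyz' : y' ≠ z) (he : e ∈ ee L y')
    (hey : e * y * e⁻¹ = z * y) (hg : ∀ q ∈ V, q ≠ 1 → ∀ d ∈ dd V q, g * d = d * g)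
    (hgy : g * y' * g⁻¹ = z * y') : dd V z ≤ ii V ⊔ (dd V z ⊓ ii L) := by
  intro w hw
  obtain ⟨d, hd, hi⟩ := h.dd_split hL hy hy1 hyz hy' hy1' hyz' he hey hg hgy hw
  obtain ⟨h1, h2, -⟩ := h.dd_comm_mem hL hy hy1 hyz hy' hy1' hyz' he hey hg hgy hd
  have e1 : w = (d * (e * d * e⁻¹)) * (w⁻¹ * (d * (e * d * e⁻¹)))⁻¹ := by group
  rw [e1]
  exact mul_mem (mem_sup_right ⟨h2, h1⟩) (mem_sup_left (inv_mem hi))

/-! ### `|A| = 2` -/

/-- two elements outside `E` differ by an element of `E` -/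
theorem two_coset (h : One T V z) (h2 : (ee V z).relIndex (ws V z) = 2) (hp : p ∈ V) (hp1 : p ≠ 1) {a b : G}
    (ha : a ∈ ws V p) (hb : b ∈ ws V p) (ha' : a ∉ ee V p) (hb' : b ∉ ee V p) : a * b⁻¹ ∈ ee V p := by
  have h3 : ((ee V p).subgroupOf (ws V p)).index = 2 := by
    have := h.relIndex_ee_ws hp hp1 h.ln.z_mem h.ln.z_ne
    rw [h2] at this
    exact this
  have h4 := Subgroup.mul_mem_iff_of_index_two h3 (a := ⟨a, ha⟩) (b := ⟨b, hb⟩⁻¹)
  rw [inv_mem_iff, mem_subgroupOf, mem_subgroupOf, mem_subgroupOf] at h4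
  exact h4.mpr ⟨fun e => absurd e ha', fun e => absurd e hb'⟩

/-- `[w, w'] ∉ V` -/
theorem nt_beta [Finite G] (h : One T V z) (hN : NT V) (h2 : (ee V z).relIndex (ws V z) = 2) (hp : p ∈ V) (hp1 : p ≠ 1)
    (hq : q ∈ V) (hq1 : q ≠ 1) (hqp : q ≠ p) {a b : G} (ha : a ∈ ws V p) (hb : b ∈ ws V q) (ha' : a ∉ ee V p)
    (hb' : b ∉ ee V q) : ⁅a, b⁆ ∉ V := by
  intro hab
  apply ha'
  rw [h.nt_mem_ee hN hp hp1 hq hq1 hqp]
  refine ⟨ha, fun c hc => ?_⟩
  by_cases hcE : c ∈ ee V q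
  · have h3 := h.ee_cases hp hp1 hcE ha
    rw [h.comm_swap hp hp1 hq hq1 ha hc] at h3
    rcases h3 with h3 | h3
    · rw [h3]; exact one_mem _
    · rw [h3]; exact hp
  · have h3 := h.beta_right hp hp1 hq hq1 ha hc hb (h.two_coset h2 hq hq1 hc hb hcE hb')
    have h4 := mul_mem h3 hab
    rwa [inv_mul_cancel_right] at h4

/-- `|A| = 2`: the elements of `E_q - D_q` induce on `W_p` the functional with kernel `E_p` -/
theorem ee_comm_iff [Finite G] (h : One T V z) (h2 : (ee V z).relIndex (ws V z) = 2) (hp : p ∈ V)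
    (hp1 : p ≠ 1) (hq : q ∈ V) (hq1 : q ≠ 1) (hqp : q ≠ p) {r w : G} (hr : r ∈ ee V q) (hr' : r ∉ dd V q)
    (hw : w ∈ ws V p) : ⁅r, w⁆ = 1 ↔ w ∈ ee V p := by
  constructor
  · intro h3
    by_contra hwE
    apply hr'
    refine h.mem_dd hq hq1 hp hp1 (Ne.symm hqp) hr.1 fun b hb => ?_
    rw [← commutatorElement_eq_one_iff_mul_comm]
    by_cases hbE : b ∈ ee V p
    · exact commutatorElement_eq_one_iff_mul_comm.mpr (h.ee_comm hq hq1 hp hp1 hr hbE)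
    · -- `b = (b w⁻¹) w`
      have h4 := h.two_coset h2 hp hp1 hb hw hbE hwE
      have h5 : r * (b * w⁻¹) = (b * w⁻¹) * r := h.ee_comm hq hq1 hp hp1 hr h4
      have h6 : r * w = w * r := commutatorElement_eq_one_iff_mul_comm.mp h3
      rw [commutatorElement_eq_one_iff_mul_comm]
      have e : b = (b * w⁻¹) * w := by group
      rw [e]
      exact comm_mul_of h5 h6
  · intro hwE
    exact commutatorElement_eq_one_iff_mul_comm.mpr (h.ee_comm hq hq1 hp hp1 hr hwE)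

/-- `|A| = 2`: some element of `E_q` is not in `D_q` -/
theorem exists_ee_not_dd [Finite G] (h : One T V z) (hN : NT V) (hq : q ∈ V) (hq1 : q ≠ 1) :
    ∃ r ∈ ee V q, r ∉ dd V q := by
  have := h.nt_phi hN hq hq1
  rwa [SetLike.not_le_iff_exists] at this

/-- `|A| = 2`: `r ∈ E_q(L) - D_q(L)` moves the point `w ∈ W_z` iff `w ∉ E_z(L)` -/
theorem ee_moves [Finite G] (h : One T V z) (h2 : (ee V z).relIndex (ws V z) = 2) (hq : q ∈ V)
    (hq1 : q ≠ 1) (hqz : q ≠ z) {r w : G} (hr : r ∈ ee V q) (hr' : r ∉ dd V q) (hw : w ∈ ws V z)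
    (hwE : w ∉ ee V z) : r * w * r⁻¹ = z * w := by
  have h3 := (h.ee_comm_iff h2 h.ln.z_mem h.ln.z_ne hq hq1 hqz hr hr' hw).not.mpr hwE
  have h4 := (h.ee_cases h.ln.z_mem h.ln.z_ne hr hw).resolve_left h3
  calc r * w * r⁻¹ = ⁅r, w⁆ * w := by rw [commutatorElement_def]; group
    _ = z * w := by rw [h4]

end One

/-! ### a second line on `z` -/

theorem NT.of_lines {V L : Subgroup G} {z : G} (hN : NT V) (hL : L ∈ lines V z) : NT L := by
  obtain ⟨⟨g, rfl⟩, -⟩ := hL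
  intro p hp hp1 w hw
  have hp' : g⁻¹ * p * g ∈ V := mem_cj.mp hp
  have hp1' : g⁻¹ * p * g ≠ 1 := conj_ne_one hp1
  have hgV : ∀ v ∈ V, g * v * g⁻¹ ∈ cj g V := fun v hv => conj_mem_cj hv
  have hws : ∀ {q b : G}, b ∈ ws V q → g * b * g⁻¹ ∈ ws (cj g V) (g * q * g⁻¹) := fun {q b} hb => by
    rw [ws_cj]; exact conj_mem_ws g hb
  have hws' : ∀ {q b : G}, b ∈ ws (cj g V) q → g⁻¹ * b * g ∈ ws V (g⁻¹ * q * g) := fun {q b} hb => by
    rw [ws_cj] at hb
    have := conj_mem_ws g⁻¹ hb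
    rwa [inv_inv] at this
  have h1 : g⁻¹ * w * g ∈ n0 V (g⁻¹ * p * g) := by
    refine ⟨hws' hw.1, ?_, ?_⟩
    · rw [mem_centralizer_iff]
      intro v hv
      have := mem_centralizer_iff.mp hw.2.1 _ (hgV v hv)
      calc v * (g⁻¹ * w * g) = g⁻¹ * ((g * v * g⁻¹) * w) * g := by group
        _ = g⁻¹ * (w * (g * v * g⁻¹)) * g := by rw [this]
        _ = g⁻¹ * w * g * v := by group
    · intro q hq hq1 b hb
      have h2 := hw.2.2 _ (hgV q hq) (by
        intro e; exact hq1 (conj_eq_one_iff.mp e)) _ (hws hb)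
      have h3 := mem_cj.mp h2
      have e : g⁻¹ * ⁅w, g * b * g⁻¹⁆ * g = ⁅g⁻¹ * w * g, b⁆ := by simp only [commutatorElement_def]; group
      rwa [e] at h3
  have h2 := hN _ hp' hp1' h1
  refine ⟨hw.1, fun q hq hq1 => ?_⟩
  have h3 := h2.2 _ (mem_cj.mp hq) (conj_ne_one hq1)
  have h4 := conj_mem_kq g h3
  rw [kq_cj]
  have e1 : g * (g⁻¹ * w * g) * g⁻¹ = w := by group
  have e2 : g * (g⁻¹ * q * g) * g⁻¹ = q := by group
  rwa [e1, e2] at h4

namespace One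

variable {T V : Subgroup G} {z p q r : G}

theorem two_of_lines (h : One T V z) (h2 : (ee V z).relIndex (ws V z) = 2) {L : Subgroup G} (hL : L ∈ lines V z) :
    (ee L z).relIndex (ws L z) = 2 := by
  obtain ⟨⟨g, hLg⟩, hzL⟩ := hL
  have hz := h.ln.z_mem
  obtain ⟨c, hc, hLc⟩ := h.ln.exists_of_mem_lines ⟨⟨g, hLg⟩, hzL⟩
  subst hLc
  have hcz : c * z * c⁻¹ = z := conj_eq_of_comm (mem_centralizer_singleton_iff.mp hc)
  have h3 : cj c (ee V z) = ee (cj c V) z := by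
    ext w
    rw [mem_cj]
    constructor
    · rintro ⟨h4, h5⟩
      refine ⟨?_, fun q hq hq1 => ?_⟩
      · rw [ws_cj]
        have := conj_mem_ws c h4
        rw [hcz] at this
        have e : c * (c⁻¹ * w * c) * c⁻¹ = w := by group
        rwa [e] at this
      · have h6 := conj_mem_kq c (h5 _ (mem_cj.mp hq) (conj_ne_one hq1))
        rw [kq_cj]
        have e1 : c * (c⁻¹ * w * c) * c⁻¹ = w := by group
        have e2 : c * (c⁻¹ * q * c) * c⁻¹ = q := by group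
        rwa [e1, e2] at h6
    · rintro ⟨h4, h5⟩
      have hcz' : c⁻¹ * z * c⁻¹⁻¹ = z := by
        rw [inv_inv]
        calc c⁻¹ * z * c = c⁻¹ * (c * z * c⁻¹) * c := by rw [hcz]
          _ = z := by group
      refine ⟨?_, fun q hq hq1 => ?_⟩
      · rw [ws_cj] at h4
        have := conj_mem_ws c⁻¹ h4
        rwa [hcz', inv_inv] at this
      · have h6 := conj_mem_kq c⁻¹ (h5 _ (conj_mem_cj hq) (fun e => hq1 (conj_eq_one_iff.mp e)))
        rw [kq_cj, inv_inv] at h6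
        have e2 : c⁻¹ * (c * q * c⁻¹) * c = q := by group
        rwa [e2] at h6
  have h4 : cj c (ws V z) = ws (cj c V) z := by rw [cj_ws, hcz, ws_cj]
  rw [← h3, ← h4, relIndex_cj, h2]

/-- **(0.1)** for a symmetric pair `(V, L)` of lines on `z`: `y ∈ V`, `y' ∈ L`, `y ∉ E_z(L)`, `y' ∉ E_z(V)`. -/
theorem sym_pair [Finite G] (h : One T V z) (hN : NT V) (h2 : (ee V z).relIndex (ws V z) = 2) {L : Subgroup G}
    (hL : L ∈ lines V z) {y y' r d : G} (hy : y ∈ V) (hy1 : y ≠ 1) (hyz : y ≠ z) (hy' : y' ∈ L)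
    (hy1' : y' ≠ 1) (hyz' : y' ≠ z) (hyE : y ∉ ee L z) (hyE' : y' ∉ ee V z) (hr : r ∈ ee L y') (hr' : r ∉ dd L y')
    (hd : d ∈ dd V y) :
    d * (r * d * r⁻¹) ∈ ii L ∧ d * (r * d * r⁻¹) ∈ dd V z ∧ r * d * r⁻¹ ∈ dd V (z * y) := by
  obtain ⟨-, -, T', h'⟩ := h.of_line hL h.ln.z_ne
  obtain ⟨g, hg, hg'⟩ := h.exists_ee_not_dd hN hy hy1
  have hyw : y ∈ ws L z := by rw [ws_of_lines hL]; exact h.V_le h.ln.z_mem h.ln.z_ne hy
  have hyw' : y' ∈ ws V z := le_ws hL hy'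
  refine h.dd_comm_mem hL hy hy1 hyz hy' hy1' hyz' hr
    (h'.ee_moves (h.two_of_lines h2 hL) hy' hy1' hyz' hr hr' hyw hyE) (g := g)
    (fun q hq hq1 d hd => (hd.2 y hy hy1 g hg.1).symm)
    (h.ee_moves h2 hy hy1 hyz hg hg' hyw' hyE') hd

/-- **(0.1)**: every `w ∈ D_z(V)` is `d d^r` modulo `I` for a `d ∈ D_y(V)` -/
theorem sym_pair_surj [Finite G] (h : One T V z) (hN : NT V) (h2 : (ee V z).relIndex (ws V z) = 2) {L : Subgroup G}
    (hL : L ∈ lines V z) {y y' r w : G} (hy : y ∈ V) (hy1 : y ≠ 1) (hyz : y ≠ z) (hy' : y' ∈ L)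
    (hy1' : y' ≠ 1) (hyz' : y' ≠ z) (hyE : y ∉ ee L z) (hyE' : y' ∉ ee V z) (hr : r ∈ ee L y') (hr' : r ∉ dd L y')
    (hw : w ∈ dd V z) : ∃ d ∈ dd V y, w⁻¹ * (d * (r * d * r⁻¹)) ∈ ii V := by
  obtain ⟨-, -, T', h'⟩ := h.of_line hL h.ln.z_ne
  obtain ⟨g, hg, hg'⟩ := h.exists_ee_not_dd hN hy hy1
  have hyw : y ∈ ws L z := by rw [ws_of_lines hL]; exact h.V_le h.ln.z_mem h.ln.z_ne hy
  have hyw' : y' ∈ ws V z := le_ws hL hy'
  exact h.dd_split hL hy hy1 hyz hy' hy1' hyz' hr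
    (h'.ee_moves (h.two_of_lines h2 hL) hy' hy1' hyz' hr hr' hyw hyE) (g := g)
    (fun q hq hq1 d hd => (hd.2 y hy hy1 g hg.1).symm)
    (h.ee_moves h2 hy hy1 hyz hg hg' hyw' hyE') hw

/-- **(0.1)**: `D_z(V) = I_V (D_z(V) ∩ I_L)` for a symmetric pair -/
theorem sym_pair_le [Finite G] (h : One T V z) (hN : NT V) (h2 : (ee V z).relIndex (ws V z) = 2) {L : Subgroup G}
    (hL : L ∈ lines V z) {y y' : G} (hy : y ∈ V) (hy1 : y ≠ 1) (hyz : y ≠ z) (hy' : y' ∈ L)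
    (hy1' : y' ≠ 1) (hyz' : y' ≠ z) (hyE : y ∉ ee L z) (hyE' : y' ∉ ee V z) :
    dd V z ≤ ii V ⊔ (dd V z ⊓ ii L) := by
  obtain ⟨-, -, T', h'⟩ := h.of_line hL h.ln.z_ne
  obtain ⟨r, hr, hr'⟩ := h'.exists_ee_not_dd (hN.of_lines hL) hy' hy1'
  intro w hw
  obtain ⟨d, hd, hi⟩ := h.sym_pair_surj hN h2 hL hy hy1 hyz hy' hy1' hyz' hyE hyE' hr hr' hw
  obtain ⟨h3, h4, -⟩ := h.sym_pair hN h2 hL hy hy1 hyz hy' hy1' hyz' hyE hyE' hr hr' hd
  have e1 : w = (d * (r * d * r⁻¹)) * (w⁻¹ * (d * (r * d * r⁻¹)))⁻¹ := by group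
  rw [e1]
  exact mul_mem (mem_sup_right ⟨h4, h3⟩) (mem_sup_left (inv_mem hi))

/-- **(0.2)**: `V` and the line `L = ⟨z, u⟩` in one plane (`u ∈ ii V`): `W_z ∩ W_u ≤ E_z(V)` -/
theorem ii_le_ee_of_plane [Finite G] (h : One T V z) (hN : NT V) (h2 : (ee V z).relIndex (ws V z) = 2)
    {L : Subgroup G} (hL : L ∈ lines V z) {u : G} (huL : u ∈ L) (hu : u ∈ ii V) (huV : u ∉ V) : ii L ≤ ee V z := by
  intro w hw
  by_contra hwE
  have hz := h.ln.z_mem
  have hz1 := h.ln.z_ne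
  have hu1 : u ≠ 1 := fun e => huV (e ▸ one_mem V)
  obtain ⟨y, hy, hy1, hyz⟩ := h.exists_q hz hz1
  obtain ⟨g, hg, hgu, hgz⟩ := h.ftwo hu huV hz hz1 hy hy1
  obtain ⟨-, -, T', h'⟩ := h.of_line hL hz1
  have hwz : w ∈ ws V z := by
    have := ii_le h'.ln.z_mem hz1 hw
    rwa [ws_of_lines hL] at this
  have hwu : w ∈ ws L u := ii_le huL hu1 hw
  have h3 : g * w * g⁻¹ ∈ ws V y := by
    have := conj_mem_ws g hwz
    rwa [hgz] at this
  have h4 : g * w * g⁻¹ ∉ ee V y := by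
    intro h5
    apply hwE
    have h6 := conj_mem_ee (inv_mem hg) h5
    have e1 : g⁻¹ * (g * w * g⁻¹) * g⁻¹⁻¹ = w := by group
    have e2 : g⁻¹ * y * g⁻¹⁻¹ = z := by rw [← hgz]; group
    rwa [e1, e2] at h6
  have h5 : g * w * g⁻¹ ∈ ws L u := by
    have := conj_mem_ws g hwu
    rwa [conj_eq_of_comm hgu] at this
  have h6 : w * (g * w * g⁻¹) = (g * w * g⁻¹) * w := h'.comm huL hu1 _ hwu _ h5
  refine h.nt_beta hN h2 hz hz1 hy hy1 hyz hwz h3 hwE h4 ?_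
  rw [commutatorElement_eq_one_iff_mul_comm.mpr h6]
  exact one_mem _

end One

end Cfsg.Agent.Omega.NO3S.TwoOne
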