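import Cfsg.Agent.Omega.NO3S.KOne.TFour
import Cfsg.Agent.Omega.NO3S.TwoOne.Alpha

/-!
# NO-3S, `q = 2`, `n = 1`, `|A| = 2`, no `λ`-transvections (helper881 #18307): (3.2) and `|M| = 16`

* `One.alphaIn` : (3.2) from THEOREM ALPHA (2.1);
* `One.tsys` : the `TSys` of `h : One T V z`, `NT V`, `|W_z : E_z| = 2`, without further hypotheses;
* `One.card_sixteen` : `|M| = 16`.
-/

set_option autoImplicit false
set_option linter.unusedSectionVars false

namespace Cfsg.Agent.Omega.NO3S.TwoOne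

open Subgroup Cfsg Cfsg.Agent.ZN Cfsg.Agent.MinSimple.Geo Cfsg.Agent.Omega.CaseL
open Cfsg.Agent.Omega.NO3S.Fit
open Cfsg.Agent.ZN.Block (conj_mem_of_normalizer conj_mem_of_normalizer' le_normalizer_of_forall
  mem_normalizer_of)
open scoped commutatorElement

universe u

variable {G : Type u} [Group G]

namespace One

variable {T V L : Subgroup G} {z y q : G}

/-- (3.2) -/
theorem alphaIn [Finite G] (h : One T V z) (hN : NT V) (h2 : (ee V z).relIndex (ws V z) = 2) (hy : y ∈ V)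
    (hy1 : y ≠ 1) (hyz : y ≠ z) : AlphaIn V z y := by
  intro L hL q hq hq1 hqz hyE hqE u hu hu' huV huL
  have hz := h.ln.z_mem
  have hz1 := h.ln.z_ne
  obtain ⟨-, -, T', h'⟩ := h.of_line hL hz1
  have hqw : q ∈ ws V z := le_ws hL hq
  have hyw : y ∈ ws L z := by rw [ws_of_lines hL]; exact h.V_le hz hz1 hy
  -- the symmetric pair
  obtain ⟨r, hr, hr'⟩ := h'.exists_ee_not_dd (hN.of_lines hL) hq hq1
  obtain ⟨g, hg, hg'⟩ := h.exists_ee_not_dd hN hy hy1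
  have S : Spr V L z y q r g := Spr.of_ee hL hy hy1 hyz hq hq1 hqz hr
    (h'.ee_moves (h.two_of_lines h2 hL) hq hq1 hqz hr hr' hyw hyE) hy hy1 hg.1
    (h.ee_moves h2 hy hy1 hyz hg hg' hqw hqE)
  -- `q ∈ N`
  have hqN : q ∈ nu u z := h'.V_le_nu hu' huL hq
  obtain ⟨c, hc, hcu, hcz⟩ := h.ftwo hu huV hz hz1 hy hy1
  have hw : c * q * c⁻¹ ∈ ws V y := by
    have := conj_mem_ws c hqw
    rwa [hcz] at this
  refine ⟨c * q * c⁻¹, hw, ?_, ?_⟩
  · intro e
    apply hqE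
    have h3 := conj_mem_ee (inv_mem hc) e
    have e1 : c⁻¹ * y * c⁻¹⁻¹ = z := by rw [← hcz]; group
    have e2 : c⁻¹ * (c * q * c⁻¹) * c⁻¹⁻¹ = q := by group
    rwa [e1, e2] at h3
  · exact S.nu_comm h hN hu hu' huV hy hy1 hz hz1 (Ne.symm hyz)
      (conj_mem_nu (mem_centralizer_singleton_iff.mpr hcu) hqN) hw hqN hqw

variable {M H : Type u} [AddCommGroup M] [Group H] [DistribMulAction H M]

/-- sections 2-4 of #18307 -/
theorem tsys [Finite G] (h : One T V z) (R : MRep V cg z M H) (hN : NT V)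
    (h2 : (ee V z).relIndex (ws V z) = 2) (hy : y ∈ V) (hy1 : y ≠ 1) (hyz : y ≠ z) {b : G} (hb : b ∈ ws V y)
    (hbE : b ∉ ee V y) :
    ∃ S : TSys M H, (S.L = Set.range fun x : H => x • R.pi y) ∧
      (∀ x : H, S.a (x • R.pi y) = x * R.phi b * x⁻¹) ∧
      ∀ (x : H) (m : M), m ∈ S.I (x • R.pi y) ↔ x⁻¹ • m ∈ h.iM R :=
  h.exists_tsys R hN h2 hy hy1 hyz (h.alphaIn hN h2 hy hy1 hyz) hb hbE

/-- **(4.4)** -/
theorem card_sixteen [Finite G] [Finite M] (h : One T V z) (R : MRep V cg z M H) (hN : NT V)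
    (h2 : (ee V z).relIndex (ws V z) = 2) : Nat.card M = 16 := by
  obtain ⟨y, hy, hy1, hyz⟩ := h.exists_q h.ln.z_mem h.ln.z_ne
  obtain ⟨b, hb, hbE⟩ := SetLike.not_le_iff_exists.mp (h.not_ws_le_ee hy hy1)
  obtain ⟨S, -⟩ := h.tsys R hN h2 hy hy1 hyz hb hbE
  exact S.card.1

end One

end Cfsg.Agent.Omega.NO3S.TwoOne
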