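import Cfsg.Agent.Omega.NO3S.KOne.TMod

/-!
# NO-3S, `q = 2`, `n = 1`, `|A| = 2`: a `TSys` from one line vector

`TSys.ofBase` : the system of the conjugates of `(v₀, a₀, I₀)`; `ofBase_a`, `mem_ofBase_I`.
-/

set_option autoImplicit false

namespace Cfsg.Agent.Omega.NO3S.TwoOne

universe u v

variable {M : Type u} {H : Type v} [AddCommGroup M] [Group H] [DistribMulAction H M]

/-- the facts about one line vector `v₀`, its involution `a₀` and `Ī = I₀` -/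
structure TBase (v₀ : M) (a₀ : H) (I₀ : AddSubgroup M) : Prop where
  two : ∀ m : M, m + m = 0
  ne0 : v₀ ≠ 0
  stab : ∀ x : H, x • v₀ = v₀ → x * a₀ = a₀ * x
  stabI : ∀ x : H, x • v₀ = v₀ → ∀ m ∈ I₀, x • m ∈ I₀
  sq : a₀ * a₀ = 1
  cent : ∀ x : H, x * a₀ = a₀ * x → x • v₀ = v₀
  fix : ∀ m ∈ I₀, a₀ • m = m
  comm : ∀ m, a₀ • m + m ∈ I₀
  mem : ∃ m, a₀ • m + m = v₀
  nt : ∃ m, a₀ • m + m ≠ 0 ∧ a₀ • m + m ≠ v₀
  idx : ∀ m n, a₀ • m + m ≠ 0 → a₀ • m + m ≠ v₀ → a₀ • n + n ≠ 0 → a₀ • n + n ≠ v₀ →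
    a₀ • (m + n) + (m + n) = 0 ∨ a₀ • (m + n) + (m + n) = v₀
  lemI : ∀ X : AddSubgroup M, (∀ (x : H), ∀ m ∈ X, x • m ∈ X) → X ≠ ⊤ → ∀ m ∈ X, m ∈ I₀ → m = 0
  faith : ∀ X : AddSubgroup M, (∀ (x : H), ∀ m ∈ X, x • m ∈ X) → X ≠ ⊤ → ∀ x : H, (∀ m, x • m + m ∈ X) → x = 1
  rel : ∀ x : H, a₀ • (x • v₀) + x • v₀ ≠ 0 → a₀ • (x • v₀) + x • v₀ ≠ v₀ →
    (x * a₀ * x⁻¹) • v₀ + v₀ ≠ 0 → (x * a₀ * x⁻¹) • v₀ + v₀ ≠ x • v₀ →
    ∀ d, a₀ • d = d → ∃ i ∈ I₀, ∃ j ∈ I₀, a₀ • (x • j) = x • j ∧ d = i + x • j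
  alpha : ∀ x : H, a₀ • (x • v₀) + x • v₀ ≠ 0 → a₀ • (x • v₀) + x • v₀ ≠ v₀ →
    (x * a₀ * x⁻¹) • v₀ + v₀ ≠ 0 → (x * a₀ * x⁻¹) • v₀ + v₀ ≠ x • v₀ →
    ∀ u ∈ I₀, ∀ j ∈ I₀, x • j = u → u ≠ 0 → a₀ • (x • v₀) + x • v₀ = u
  grp : ∀ x : H, a₀ • (x • v₀) + x • v₀ ≠ 0 → a₀ • (x • v₀) + x • v₀ ≠ v₀ →
    (x * a₀ * x⁻¹) • v₀ + v₀ ≠ 0 → (x * a₀ * x⁻¹) • v₀ + v₀ ≠ x • v₀ →
    ((x * a₀ * x⁻¹) • (a₀ • (x • v₀)) + a₀ • (x • v₀) = 0 ∨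
      (x * a₀ * x⁻¹) • (a₀ • (x • v₀)) + a₀ • (x • v₀) = x • v₀) → ∃ j ∈ I₀, x • j ∈ I₀ ∧ j ≠ 0

namespace TBase

variable {v₀ : M} {a₀ : H} {I₀ : AddSubgroup M}

/-- a representative -/
noncomputable def rep (v₀ : M) (H : Type v) [Group H] [DistribMulAction H M] (v : M) : H := by
  classical
  exact if h : ∃ x : H, x • v₀ = v then h.choose else 1

theorem rep_smul {v : M} (h : ∃ x : H, x • v₀ = v) : rep v₀ H v • v₀ = v := by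
  unfold rep
  rw [dif_pos h]
  exact h.choose_spec

/-- the involution -/
noncomputable def af (v₀ : M) (a₀ : H) (v : M) : H := rep v₀ H v * a₀ * (rep v₀ H v)⁻¹

/-- the subgroup `Ī_v` -/
noncomputable def If (v₀ : M) (H : Type v) [Group H] [DistribMulAction H M] (I₀ : AddSubgroup M) (v : M) :
    AddSubgroup M :=
  I₀.comap (DistribSMul.toAddMonoidHom M ((rep v₀ H v)⁻¹))

theorem mem_If {v m : M} : m ∈ If v₀ H I₀ v ↔ (rep v₀ H v)⁻¹ • m ∈ I₀ := Iff.rfl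

variable (B : TBase v₀ a₀ I₀)
include B

theorem af_smul (x : H) : af v₀ a₀ (x • v₀) = x * a₀ * x⁻¹ := by
  have h1 : rep v₀ H (x • v₀) • v₀ = x • v₀ := rep_smul ⟨x, rfl⟩
  set r := rep v₀ H (x • v₀) with hr
  have h2 : (x⁻¹ * r) • v₀ = v₀ := by rw [mul_smul, h1, inv_smul_smul]
  have h3 := B.stab _ h2
  have e : af v₀ a₀ (x • v₀) = r * a₀ * r⁻¹ := rfl
  rw [e]
  calc r * a₀ * r⁻¹ = x * ((x⁻¹ * r) * a₀) * r⁻¹ := by group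
    _ = x * (a₀ * (x⁻¹ * r)) * r⁻¹ := by rw [h3]
    _ = x * a₀ * x⁻¹ := by group

theorem mem_If_smul (x : H) {m : M} : m ∈ If v₀ H I₀ (x • v₀) ↔ x⁻¹ • m ∈ I₀ := by
  have h1 : rep v₀ H (x • v₀) • v₀ = x • v₀ := rep_smul ⟨x, rfl⟩
  rw [mem_If]
  set r := rep v₀ H (x • v₀) with hr
  have h2 : (x⁻¹ * r) • v₀ = v₀ := by rw [mul_smul, h1, inv_smul_smul]
  have h3 : (r⁻¹ * x) • v₀ = v₀ := by rw [mul_smul, ← h1, inv_smul_smul]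
  constructor
  · intro h
    have := B.stabI _ h2 _ h
    rwa [mul_smul, smul_inv_smul] at this
  · intro h
    have := B.stabI _ h3 _ h
    rwa [mul_smul, smul_inv_smul] at this

theorem e1 (x y : H) : af v₀ a₀ (x • v₀) • (y • v₀) + y • v₀ =
    x • (a₀ • ((x⁻¹ * y) • v₀) + (x⁻¹ * y) • v₀) := by
  rw [B.af_smul]
  simp only [mul_smul, smul_add, smul_inv_smul]

theorem e2 (x y : H) : af v₀ a₀ (y • v₀) • (x • v₀) + x • v₀ =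
    x • ((x⁻¹ * y * a₀ * (x⁻¹ * y)⁻¹) • v₀ + v₀) := by
  rw [B.af_smul]
  simp only [mul_smul, smul_add, mul_inv_rev, inv_inv, smul_inv_smul]

theorem hyp {x y : H} (h1 : af v₀ a₀ (x • v₀) • (y • v₀) + y • v₀ ≠ 0)
    (h2 : af v₀ a₀ (x • v₀) • (y • v₀) + y • v₀ ≠ x • v₀)
    (h3 : af v₀ a₀ (y • v₀) • (x • v₀) + x • v₀ ≠ 0)
    (h4 : af v₀ a₀ (y • v₀) • (x • v₀) + x • v₀ ≠ y • v₀) :
    a₀ • ((x⁻¹ * y) • v₀) + (x⁻¹ * y) • v₀ ≠ 0 ∧ a₀ • ((x⁻¹ * y) • v₀) + (x⁻¹ * y) • v₀ ≠ v₀ ∧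
    ((x⁻¹ * y) * a₀ * (x⁻¹ * y)⁻¹) • v₀ + v₀ ≠ 0 ∧
    ((x⁻¹ * y) * a₀ * (x⁻¹ * y)⁻¹) • v₀ + v₀ ≠ (x⁻¹ * y) • v₀ := by
  rw [B.e1] at h1 h2
  rw [B.e2] at h3 h4
  refine ⟨fun h => h1 (by rw [h, smul_zero]), fun h => h2 (by rw [h]), fun h => h3 (by rw [h, smul_zero]),
    fun h => h4 (by rw [h, mul_smul, smul_inv_smul])⟩

end TBase

/-- the system of the conjugates of `(v₀, a₀, I₀)` -/
noncomputable def TSys.ofBase {v₀ : M} {a₀ : H} {I₀ : AddSubgroup M} (B : TBase v₀ a₀ I₀) : TSys M H where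
  L := Set.range fun x : H => x • v₀
  a := TBase.af v₀ a₀
  I := TBase.If v₀ H I₀
  two := B.two
  ne := ⟨v₀, 1, one_smul _ _⟩
  ne0 := by
    rintro ⟨x, hx⟩
    apply B.ne0
    have := congrArg (fun y => x⁻¹ • y) hx
    simpa using this
  smul_mem := by
    rintro x _ ⟨y, rfl⟩
    exact ⟨x * y, mul_smul _ _ _⟩
  trans := by
    rintro _ ⟨x, rfl⟩ _ ⟨y, rfl⟩
    exact ⟨y * x⁻¹, by simp [mul_smul]⟩
  a_smul := by
    rintro x _ ⟨y, rfl⟩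
    change TBase.af v₀ a₀ (x • (y • v₀)) = x * TBase.af v₀ a₀ (y • v₀) * x⁻¹
    rw [← mul_smul, B.af_smul, B.af_smul]
    group
  I_smul := by
    rintro x _ ⟨y, rfl⟩ m hm
    change m ∈ TBase.If v₀ H I₀ (y • v₀) at hm
    change x • m ∈ TBase.If v₀ H I₀ (x • (y • v₀))
    rw [B.mem_If_smul] at hm
    rw [← mul_smul, B.mem_If_smul, mul_inv_rev, mul_smul, inv_smul_smul]
    exact hm
  sq := by
    rintro _ ⟨x, rfl⟩
    change TBase.af v₀ a₀ (x • v₀) * TBase.af v₀ a₀ (x • v₀) = 1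
    rw [B.af_smul]
    calc x * a₀ * x⁻¹ * (x * a₀ * x⁻¹) = x * (a₀ * a₀) * x⁻¹ := by group
      _ = 1 := by rw [B.sq]; group
  cent := by
    rintro _ ⟨x, rfl⟩ y hy
    change y * TBase.af v₀ a₀ (x • v₀) = TBase.af v₀ a₀ (x • v₀) * y at hy
    change y • (x • v₀) = x • v₀
    rw [B.af_smul] at hy
    have h1 := B.cent (x⁻¹ * y * x) (by
      calc x⁻¹ * y * x * a₀ = x⁻¹ * (y * (x * a₀ * x⁻¹)) * x := by group
        _ = x⁻¹ * (x * a₀ * x⁻¹ * y) * x := by rw [hy]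
        _ = a₀ * (x⁻¹ * y * x) := by group)
    have := congrArg (fun m => x • m) h1
    simp only [mul_smul, smul_inv_smul] at this
    exact this
  fix := by
    rintro _ ⟨x, rfl⟩ m hm
    change m ∈ TBase.If v₀ H I₀ (x • v₀) at hm
    change TBase.af v₀ a₀ (x • v₀) • m = m
    rw [B.mem_If_smul] at hm
    rw [B.af_smul, mul_smul, mul_smul, B.fix _ hm, smul_inv_smul]
  comm := by
    rintro _ ⟨x, rfl⟩ m
    change TBase.af v₀ a₀ (x • v₀) • m + m ∈ TBase.If v₀ H I₀ (x • v₀)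
    rw [B.mem_If_smul, B.af_smul, smul_add, mul_smul, mul_smul, inv_smul_smul]
    exact B.comm _
  mem := by
    rintro _ ⟨x, rfl⟩
    obtain ⟨m, hm⟩ := B.mem
    refine ⟨x • m, ?_⟩
    change TBase.af v₀ a₀ (x • v₀) • (x • m) + x • m = x • v₀
    rw [B.af_smul, mul_smul, mul_smul, inv_smul_smul, ← smul_add, hm]
  nt := by
    rintro _ ⟨x, rfl⟩
    obtain ⟨m, hm1, hm2⟩ := B.nt
    refine ⟨x • m, ?_⟩
    change TBase.af v₀ a₀ (x • v₀) • (x • m) + x • m ≠ 0 ∧ TBase.af v₀ a₀ (x • v₀) • (x • m) + x • m ≠ x • v₀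
    rw [B.af_smul, mul_smul, mul_smul, inv_smul_smul, ← smul_add]
    refine ⟨fun h => hm1 ?_, fun h => hm2 (smul_left_cancel x h)⟩
    have := congrArg (fun m => x⁻¹ • m) h
    simpa using this
  idx := by
    rintro _ ⟨x, rfl⟩ m n
    change TBase.af v₀ a₀ (x • v₀) • m + m ≠ 0 → TBase.af v₀ a₀ (x • v₀) • m + m ≠ x • v₀ →
      TBase.af v₀ a₀ (x • v₀) • n + n ≠ 0 → TBase.af v₀ a₀ (x • v₀) • n + n ≠ x • v₀ →
      TBase.af v₀ a₀ (x • v₀) • (m + n) + (m + n) = 0 ∨ TBase.af v₀ a₀ (x • v₀) • (m + n) + (m + n) = x • v₀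
    rw [B.af_smul]
    have key : ∀ m : M, (x * a₀ * x⁻¹) • m + m = x • (a₀ • (x⁻¹ • m) + x⁻¹ • m) := by
      intro m
      rw [smul_add, smul_inv_smul, mul_smul, mul_smul]
    have k0 : ∀ m : M, x • m = 0 ↔ m = 0 := fun m => smul_eq_zero_iff_eq x
    have k1 : ∀ m : M, x • m = x • v₀ ↔ m = v₀ := fun m => smul_left_cancel_iff x
    rw [key, key, key, ne_eq, ne_eq, ne_eq, ne_eq, k0, k0, k0, k1, k1, k1]
    intro h1 h2 h3 h4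
    have := B.idx _ _ h1 h2 h3 h4
    rwa [← smul_add] at this
  lemI := by
    rintro X hX hne _ ⟨x, rfl⟩ m hm hmI
    change m ∈ TBase.If v₀ H I₀ (x • v₀) at hmI
    rw [B.mem_If_smul] at hmI
    have := B.lemI X hX hne _ (hX x⁻¹ m hm) hmI
    exact (smul_eq_zero_iff_eq x⁻¹).mp this
  faith := B.faith
  rel := by
    rintro _ ⟨x, rfl⟩ _ ⟨y, rfl⟩ h1 h2 h3 h4 d hd
    obtain ⟨g1, g2, g3, g4⟩ := B.hyp h1 h2 h3 h4
    change TBase.af v₀ a₀ (x • v₀) • d = d at hd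
    change ∃ i ∈ TBase.If v₀ H I₀ (x • v₀), ∃ j ∈ TBase.If v₀ H I₀ (y • v₀),
      TBase.af v₀ a₀ (x • v₀) • j = j ∧ d = i + j
    rw [B.af_smul] at hd ⊢
    have hd' : a₀ • (x⁻¹ • d) = x⁻¹ • d := by
      have := congrArg (fun m => x⁻¹ • m) hd
      simpa [mul_smul] using this
    obtain ⟨i, hi, j, hj, hj1, hij⟩ := B.rel _ g1 g2 g3 g4 _ hd'
    refine ⟨x • i, ?_, y • j, ?_, ?_, ?_⟩
    · rw [B.mem_If_smul, inv_smul_smul]; exact hi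
    · rw [B.mem_If_smul, inv_smul_smul]; exact hj
    · have := congrArg (fun m => x • m) hj1
      simpa [mul_smul] using this
    · have := congrArg (fun m => x • m) hij
      simpa [mul_smul] using this
  alpha := by
    rintro _ ⟨x, rfl⟩ _ ⟨y, rfl⟩ h1 h2 h3 h4 u hu hu' hu0
    obtain ⟨g1, g2, g3, g4⟩ := B.hyp h1 h2 h3 h4
    change u ∈ TBase.If v₀ H I₀ (x • v₀) at hu
    change u ∈ TBase.If v₀ H I₀ (y • v₀) at hu'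
    change TBase.af v₀ a₀ (x • v₀) • (y • v₀) + y • v₀ = u
    rw [B.mem_If_smul] at hu hu'
    have := B.alpha _ g1 g2 g3 g4 (x⁻¹ • u) hu (y⁻¹ • u) hu' (by rw [mul_smul, smul_inv_smul])
      (fun h => hu0 ((smul_eq_zero_iff_eq x⁻¹).mp h))
    rw [B.e1, this, smul_inv_smul]
  grp := by
    rintro _ ⟨x, rfl⟩ _ ⟨y, rfl⟩ h1 h2 h3 h4 h5
    obtain ⟨g1, g2, g3, g4⟩ := B.hyp h1 h2 h3 h4
    change TBase.af v₀ a₀ (y • v₀) • (TBase.af v₀ a₀ (x • v₀) • (y • v₀)) + TBase.af v₀ a₀ (x • v₀) • (y • v₀) = 0 ∨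
      TBase.af v₀ a₀ (y • v₀) • (TBase.af v₀ a₀ (x • v₀) • (y • v₀)) + TBase.af v₀ a₀ (x • v₀) • (y • v₀) =
        y • v₀ at h5
    change ∃ u ∈ TBase.If v₀ H I₀ (x • v₀), u ∈ TBase.If v₀ H I₀ (y • v₀) ∧ u ≠ 0
    have e : TBase.af v₀ a₀ (y • v₀) • (TBase.af v₀ a₀ (x • v₀) • (y • v₀)) + TBase.af v₀ a₀ (x • v₀) • (y • v₀) =
        x • ((x⁻¹ * y * a₀ * (x⁻¹ * y)⁻¹) • (a₀ • ((x⁻¹ * y) • v₀)) + a₀ • ((x⁻¹ * y) • v₀)) := by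
      rw [B.af_smul, B.af_smul]
      simp only [mul_smul, smul_add, mul_inv_rev, inv_inv, smul_inv_smul]
    rw [e] at h5
    obtain ⟨j, hj, hj1, hj0⟩ := B.grp _ g1 g2 g3 g4 (by
      rcases h5 with h5 | h5
      · left
        exact (smul_eq_zero_iff_eq x).mp h5
      · right
        have := congrArg (fun m => x⁻¹ • m) h5
        simp only [inv_smul_smul] at this
        rw [this, mul_smul])
    refine ⟨y • j, ?_, ?_, fun h => hj0 ((smul_eq_zero_iff_eq y).mp h)⟩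
    · rw [B.mem_If_smul, ← mul_smul]; exact hj1
    · rw [B.mem_If_smul, inv_smul_smul]; exact hj

theorem TSys.ofBase_L {v₀ : M} {a₀ : H} {I₀ : AddSubgroup M} (B : TBase v₀ a₀ I₀) :
    (TSys.ofBase B).L = Set.range fun x : H => x • v₀ := rfl

theorem TSys.ofBase_a {v₀ : M} {a₀ : H} {I₀ : AddSubgroup M} (B : TBase v₀ a₀ I₀) (x : H) :
    (TSys.ofBase B).a (x • v₀) = x * a₀ * x⁻¹ := B.af_smul x

theorem TSys.mem_ofBase_I {v₀ : M} {a₀ : H} {I₀ : AddSubgroup M} (B : TBase v₀ a₀ I₀) (x : H) {m : M} :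
    m ∈ (TSys.ofBase B).I (x • v₀) ↔ x⁻¹ • m ∈ I₀ := B.mem_If_smul x

end Cfsg.Agent.Omega.NO3S.TwoOne
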