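import Mathlib

/-!
# NO-3S, `q = 2`, `n = 1`, `|A| = 2`, no `λ`-transvections (helper881 #18307): the module part of sections 3 and 4

`S : TSys M H` : `M` an elementary abelian 2-group, `H` acts on `M`; `S.L` the set of line vectors (one orbit of
`H`), `S.a v` the involution of the line vector `v`, `S.I v` the subgroup `Ī_v`; `S.E v m` : `[m, a_v] ∈ ⟨v⟩`.

* `TSys.order_three` (3.3), `TSys.no_transvection` (3.4) LEMMA T, `TSys.exists_pair` (3.5);
* `TSys.mu_not_E` (4.1), `TSys.I_inf` (4.2), `TSys.D_inf` (4.3), `TSys.mem_I_iff`, `TSys.card` (4.4): `Ī = C_M(a)`,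
  `|M| = 16`, `|Ī| = 4`; `TSys.c_mu` : `[μ, a'] = μ' + λ'` for an S-pair.
-/

set_option autoImplicit false

namespace Cfsg.Agent.Omega.NO3S.TwoOne

universe u v

/-- the line vectors, involutions and subgroups `Ī` of #18307, section 3 -/
structure TSys (M : Type u) (H : Type v) [AddCommGroup M] [Group H] [DistribMulAction H M] where
  /-- line vectors -/
  L : Set M
  /-- the involution of a line vector -/
  a : M → H
  /-- `Ī_v` -/
  I : M → AddSubgroup M
  two : ∀ m : M, m + m = 0
  ne : L.Nonempty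
  ne0 : (0 : M) ∉ L
  smul_mem : ∀ (x : H), ∀ v ∈ L, x • v ∈ L
  trans : ∀ v ∈ L, ∀ w ∈ L, ∃ x : H, x • v = w
  a_smul : ∀ (x : H), ∀ v ∈ L, a (x • v) = x * a v * x⁻¹
  I_smul : ∀ (x : H), ∀ v ∈ L, ∀ m ∈ I v, x • m ∈ I (x • v)
  sq : ∀ v ∈ L, a v * a v = 1
  /-- THEOREM P -/
  cent : ∀ v ∈ L, ∀ x : H, x * a v = a v * x → x • v = v
  fix : ∀ v ∈ L, ∀ m ∈ I v, a v • m = m
  comm : ∀ v ∈ L, ∀ m, a v • m + m ∈ I v
  /-- `v ∈ [M, a_v]` -/
  mem : ∀ v ∈ L, ∃ m, a v • m + m = v
  /-- `a_v` is not a `v`-transvection -/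
  nt : ∀ v ∈ L, ∃ m, a v • m + m ≠ 0 ∧ a v • m + m ≠ v
  /-- `|[M, a_v]| = 4` -/
  idx : ∀ v ∈ L, ∀ m n, a v • m + m ≠ 0 → a v • m + m ≠ v → a v • n + n ≠ 0 → a v • n + n ≠ v →
    a v • (m + n) + (m + n) = 0 ∨ a v • (m + n) + (m + n) = v
  /-- LEMMA I -/
  lemI : ∀ X : AddSubgroup M, (∀ (x : H), ∀ m ∈ X, x • m ∈ X) → X ≠ ⊤ → ∀ v ∈ L, ∀ m ∈ X, m ∈ I v → m = 0
  /-- (II) -/
  faith : ∀ X : AddSubgroup M, (∀ (x : H), ∀ m ∈ X, x • m ∈ X) → X ≠ ⊤ → ∀ x : H, (∀ m, x • m + m ∈ X) → x = 1
  /-- (1.2) -/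
  rel : ∀ v ∈ L, ∀ w ∈ L, a v • w + w ≠ 0 → a v • w + w ≠ v → a w • v + v ≠ 0 → a w • v + v ≠ w →
    ∀ d, a v • d = d → ∃ i ∈ I v, ∃ j ∈ I w, a v • j = j ∧ d = i + j
  /-- (3.2), ALPHA -/
  alpha : ∀ v ∈ L, ∀ w ∈ L, a v • w + w ≠ 0 → a v • w + w ≠ v → a w • v + v ≠ 0 → a w • v + v ≠ w →
    ∀ u ∈ I v, u ∈ I w → u ≠ 0 → a v • w + w = u
  /-- the group argument of (4.1) -/
  grp : ∀ v ∈ L, ∀ w ∈ L, a v • w + w ≠ 0 → a v • w + w ≠ v → a w • v + v ≠ 0 → a w • v + v ≠ w →
    (a w • (a v • w) + a v • w = 0 ∨ a w • (a v • w) + a v • w = w) → ∃ u ∈ I v, u ∈ I w ∧ u ≠ 0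

namespace TSys

variable {M : Type u} {H : Type v} [AddCommGroup M] [Group H] [DistribMulAction H M] (S : TSys M H)

/-- `E v m` : `[m, a_v] ∈ ⟨v⟩`, i.e. `m ∈ Ē_v` -/
def E (v m : M) : Prop := S.a v • m + m = 0 ∨ S.a v • m + m = v

/-- S-pairs -/
structure Pair (v w : M) : Prop where
  hv : v ∈ S.L
  hw : w ∈ S.L
  vw : ¬ S.E v w
  wv : ¬ S.E w v

variable {S}

theorem eq_of (hS : TSys M H) {a b : M} (h : a + b = 0) : a = b := by
  have := hS.two b
  calc a = a + (b + b) := by rw [this, add_zero]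
    _ = (a + b) + b := by abel
    _ = b := by rw [h, zero_add]

theorem add_self (hS : TSys M H) (a b : M) : a + (a + b) = b := by
  rw [← add_assoc, hS.two, zero_add]

theorem smul_smul_self (S : TSys M H) {v : M} (hv : v ∈ S.L) (m : M) : S.a v • (S.a v • m) = m := by
  rw [← mul_smul, S.sq v hv, one_smul]

/-- `E v` is closed under addition -/
theorem E_add (S : TSys M H) {v m n : M} (hm : S.E v m) (hn : S.E v n) : S.E v (m + n) := by
  have e : S.a v • (m + n) + (m + n) = (S.a v • m + m) + (S.a v • n + n) := by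
    rw [smul_add]; abel
  unfold E
  rw [e]
  rcases hm with h1 | h1 <;> rcases hn with h2 | h2 <;> rw [h1, h2]
  · left; exact add_zero _
  · right; exact zero_add _
  · right; exact add_zero _
  · left; exact S.two v

theorem E_add_of_not (S : TSys M H) {v m n : M} (hv : v ∈ S.L) (hm : ¬ S.E v m) (hn : ¬ S.E v n) : S.E v (m + n) :=
  S.idx v hv m n (fun h => hm (Or.inl h)) (fun h => hm (Or.inr h)) (fun h => hn (Or.inl h)) (fun h => hn (Or.inr h))

theorem not_E_add (S : TSys M H) {v m n : M} (hm : ¬ S.E v m) (hn : S.E v n) : ¬ S.E v (m + n) := fun h => hm (by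
  have := S.E_add h hn
  have e : m + n + n = m := by rw [add_assoc, S.two, add_zero]
  rwa [e] at this)

theorem E_smul (S : TSys M H) (x : H) {v m : M} (hv : v ∈ S.L) : S.E (x • v) (x • m) ↔ S.E v m := by
  unfold E
  have e : S.a (x • v) • (x • m) + x • m = x • (S.a v • m + m) := by
    rw [S.a_smul x v hv, smul_add, mul_smul, mul_smul, inv_smul_smul]
  rw [e]
  constructor
  · rintro (h | h)
    · left
      have := congrArg (fun y => x⁻¹ • y) h
      simpa using this
    · right
      have := congrArg (fun y => x⁻¹ • y) h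
      simpa using this
  · rintro (h | h)
    · left; rw [h, smul_zero]
    · right; rw [h]

theorem E_zero (S : TSys M H) (v : M) : S.E v 0 := Or.inl (by rw [smul_zero, add_zero])

/-- `Ī_v ≤ Ē_v` -/
theorem E_of_I (S : TSys M H) {v m : M} (hv : v ∈ S.L) (hm : m ∈ S.I v) : S.E v m :=
  Or.inl (by rw [S.fix v hv m hm, S.two])

theorem v_mem_I (S : TSys M H) {v : M} (hv : v ∈ S.L) : v ∈ S.I v := by
  obtain ⟨m, hm⟩ := S.mem v hv
  have := S.comm v hv m
  rwa [hm] at this

theorem a_v (S : TSys M H) {v : M} (hv : v ∈ S.L) : S.a v • v = v := S.fix v hv v (S.v_mem_I hv)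

theorem v_ne (S : TSys M H) {v : M} (hv : v ∈ S.L) : v ≠ 0 := fun e => S.ne0 (e ▸ hv)

/-- `c v m = [m, a_v]` -/
def c (S : TSys M H) (v m : M) : M := S.a v • m + m

theorem c_add (S : TSys M H) (v m n : M) : S.c v (m + n) = S.c v m + S.c v n := by
  unfold c
  rw [smul_add]; abel

theorem a_eq (S : TSys M H) (v m : M) : S.a v • m = m + S.c v m := by
  unfold c
  rw [add_comm (S.a v • m) m, S.add_self]

theorem c_eq_zero (S : TSys M H) {v m : M} : S.c v m = 0 ↔ S.a v • m = m := by
  constructor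
  · intro h; rw [S.a_eq, h, add_zero]
  · intro h; unfold c; rw [h, S.two]

theorem c_mem (S : TSys M H) {v : M} (hv : v ∈ S.L) (m : M) : S.c v m ∈ S.I v := S.comm v hv m

theorem c_of_I (S : TSys M H) {v m : M} (hv : v ∈ S.L) (hm : m ∈ S.I v) : S.c v m = 0 :=
  S.c_eq_zero.mpr (S.fix v hv m hm)

theorem c_c (S : TSys M H) {v : M} (hv : v ∈ S.L) (m : M) : S.c v (S.c v m) = 0 := S.c_of_I hv (S.c_mem hv m)

theorem c_v (S : TSys M H) {v : M} (hv : v ∈ S.L) : S.c v v = 0 := S.c_of_I hv (S.v_mem_I hv)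

theorem E_iff (S : TSys M H) {v m : M} : S.E v m ↔ S.c v m = 0 ∨ S.c v m = v := Iff.rfl

theorem E_v (S : TSys M H) {v : M} (hv : v ∈ S.L) : S.E v v := Or.inl (S.c_v hv)

theorem E_c (S : TSys M H) {v : M} (hv : v ∈ S.L) (m : M) : S.E v (S.c v m) := Or.inl (S.c_c hv m)

theorem E_a (S : TSys M H) {v : M} (hv : v ∈ S.L) (m : M) : S.E v (S.a v • m) ↔ S.E v m := by
  have := S.E_smul (S.a v) hv (m := m)
  rwa [S.a_v hv] at this

theorem c_smul (S : TSys M H) (x : H) {v : M} (hv : v ∈ S.L) (m : M) : S.c (x • v) (x • m) = x • S.c v m := by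
  unfold c
  rw [S.a_smul x v hv, smul_add, mul_smul, mul_smul, inv_smul_smul]

/-- the range of `c v` -/
theorem c_range (S : TSys M H) {v m : M} (hv : v ∈ S.L) (hm : ¬ S.E v m) (n : M) :
    S.c v n = 0 ∨ S.c v n = v ∨ S.c v n = S.c v m ∨ S.c v n = S.c v m + v := by
  by_cases hn : S.E v n
  · rcases hn with h | h
    · exact Or.inl h
    · exact Or.inr (Or.inl h)
  · right; right
    rcases S.E_add_of_not hv hm hn with h | h
    · left
      have h' : S.c v (m + n) = 0 := h
      rw [S.c_add] at h'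
      exact (S.eq_of h').symm
    · right
      have h' : S.c v (m + n) = v := h
      rw [S.c_add] at h'
      have h2 := S.add_self (S.c v m) (S.c v n)
      rw [h'] at h2
      exact h2.symm

/-- `C_H(a_v) = H_v` -/
theorem cent_iff (S : TSys M H) {v : M} (hv : v ∈ S.L) (x : H) : x * S.a v = S.a v * x ↔ x • v = v := by
  constructor
  · exact S.cent v hv x
  · intro h
    have := S.a_smul x v hv
    rw [h] at this
    calc x * S.a v = (x * S.a v * x⁻¹) * x := by group
      _ = S.a v * x := by rw [← this]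

theorem a_inj (S : TSys M H) {v w : M} (hv : v ∈ S.L) (hw : w ∈ S.L) (h : S.a v = S.a w) : v = w := by
  obtain ⟨x, rfl⟩ := S.trans v hv w hw
  rw [S.a_smul x v hv] at h
  refine (S.cent v hv x ?_).symm
  calc x * S.a v = (x * S.a v * x⁻¹) * x := by group
    _ = S.a v * x := by rw [← h]

/-- (3.1) -/
theorem comm_iff (S : TSys M H) {v w : M} (hw : w ∈ S.L) :
    S.a v * S.a w = S.a w * S.a v ↔ S.c v w = 0 := by
  rw [S.cent_iff hw, S.c_eq_zero]

theorem c_comm (S : TSys M H) {v w : M} (hv : v ∈ S.L) (hw : w ∈ S.L) : S.c v w = 0 ↔ S.c w v = 0 := by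
  rw [← S.comm_iff hw, ← S.comm_iff hv]
  exact eq_comm

/-- (3.2) -/
theorem alpha' (S : TSys M H) {v w u : M} (h : S.Pair v w) (h1 : u ∈ S.I v) (h2 : u ∈ S.I w) (h0 : u ≠ 0) :
    S.c v w = u :=
  S.alpha v h.hv w h.hw (fun e => h.vw (Or.inl e)) (fun e => h.vw (Or.inr e)) (fun e => h.wv (Or.inl e))
    (fun e => h.wv (Or.inr e)) u h1 h2 h0

theorem Pair.symm {S : TSys M H} {v w : M} (h : S.Pair v w) : S.Pair w v := ⟨h.hw, h.hv, h.wv, h.vw⟩

/-- **(3.3)** -/
theorem order_three (S : TSys M H) {v w : M} (hv : v ∈ S.L) (hw : w ∈ S.L) (hvw : v ≠ w)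
    (h3 : S.a v * S.a w * S.a v = S.a w * S.a v * S.a w) : S.c v w = v := by
  have hvi : (S.a v)⁻¹ = S.a v := inv_eq_of_mul_eq_one_right (S.sq v hv)
  have hwi : (S.a w)⁻¹ = S.a w := inv_eq_of_mul_eq_one_right (S.sq w hw)
  -- `a_w v = a_v w`
  have h1 : S.a w • v = S.a v • w := by
    refine S.a_inj (S.smul_mem _ v hv) (S.smul_mem _ w hw) ?_
    rw [S.a_smul _ v hv, S.a_smul _ w hw, hvi, hwi, h3]
  set σ := v + w + S.a v • w with hσ
  have e1 : S.c v w = v + σ := by
    rw [hσ, add_assoc, S.add_self]; unfold c; abel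
  have e2 : S.c w v = w + σ := by
    have : w + σ = v + (w + w) + S.a v • w := by rw [hσ]; abel
    rw [this, S.two, add_zero]; unfold c
    rw [h1]; abel
  by_cases h0 : σ = 0
  · rw [e1, h0, add_zero]
  exfalso
  have hne : S.c v w ≠ 0 := by
    intro e
    have h4 := (S.comm_iff hw).mpr e
    apply hvw
    refine S.a_inj hv hw ?_
    calc S.a v = S.a v * (S.a w * S.a w) := by rw [S.sq w hw, mul_one]
      _ = S.a w * S.a v * S.a w := by rw [← mul_assoc, h4]
      _ = S.a v * S.a w * S.a v := h3.symm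
      _ = S.a w * (S.a v * S.a v) := by rw [h4]; group
      _ = S.a w := by rw [S.sq v hv, mul_one]
  have hne' : S.c w v ≠ 0 := fun e => hne ((S.c_comm hw hv).mp e)
  have hI1 : σ ∈ S.I v := by
    have := add_mem (S.v_mem_I hv) (S.c_mem hv w)
    rwa [e1, S.add_self] at this
  have hI2 : σ ∈ S.I w := by
    have := add_mem (S.v_mem_I hw) (S.c_mem hw v)
    rwa [e2, S.add_self] at this
  have hp : S.Pair v w := by
    refine ⟨hv, hw, ?_, ?_⟩
    · rintro (e | e)
      · exact hne e
      · apply h0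
        have e' : S.c v w = v := e
        rw [e1] at e'
        simpa using e'
    · rintro (e | e)
      · exact hne' e
      · apply h0
        have e' : S.c w v = w := e
        rw [e2] at e'
        simpa using e'
  have h5 := S.alpha' hp hI1 hI2 h0
  rw [e1] at h5
  exact S.v_ne hv (by simpa using h5)

/-! ### LEMMA T -/

theorem bot_ne_top (S : TSys M H) : (⊥ : AddSubgroup M) ≠ ⊤ := by
  intro e
  obtain ⟨v, hv⟩ := S.ne
  have : v ∈ (⊥ : AddSubgroup M) := by rw [e]; trivial
  exact S.v_ne hv (AddSubgroup.mem_bot.mp this)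

theorem eq_one (S : TSys M H) {x : H} (h : ∀ m : M, x • m = m) : x = 1 := by
  refine S.faith ⊥ (fun y m hm => ?_) S.bot_ne_top x fun m => ?_
  · rw [AddSubgroup.mem_bot] at hm ⊢
    rw [hm, smul_zero]
  · rw [h m, S.two]; exact zero_mem _

theorem eq_of_smul (S : TSys M H) {x y : H} (h : ∀ m : M, x • m = y • m) : x = y := by
  have : y⁻¹ * x = 1 := S.eq_one fun m => by rw [mul_smul, h m, inv_smul_smul]
  exact (inv_mul_eq_one.mp this).symm

/-- `t` is a transvection with centre `e`, or `1` -/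
def Tv (t : H) (e : M) : Prop := ∀ m : M, t • m + m = 0 ∨ t • m + m = e

namespace Tv

variable {t : H} {e : M}

theorem cases (h : Tv t e) (S : TSys M H) (m : M) : t • m = m ∨ t • m = m + e := by
  rcases h m with h | h
  · exact Or.inl (S.eq_of h)
  · right
    calc t • m = t • m + (m + m) := by rw [S.two, add_zero]
      _ = (t • m + m) + m := by abel
      _ = m + e := by rw [h, add_comm]

/-- the centre of a transvection is fixed -/
theorem fix (h : Tv t e) (S : TSys M H) : t • e = e := by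
  rcases h.cases S e with h1 | h1
  · exact h1
  · rw [S.two] at h1
    have : e = 0 := by
      have := congrArg (fun x => t⁻¹ • x) h1
      simpa using this
    rw [this, smul_zero]

theorem sq (h : Tv t e) (S : TSys M H) : t * t = 1 := by
  refine S.eq_one fun m => ?_
  rw [mul_smul]
  rcases h.cases S m with h1 | h1
  · rw [h1, h1]
  · rw [h1, smul_add, h1, h.fix S, add_assoc, S.two, add_zero]

theorem conj (h : Tv t e) (x : H) : Tv (x * t * x⁻¹) (x • e) := by
  intro m
  have e1 : (x * t * x⁻¹) • m + m = x • (t • (x⁻¹ • m) + x⁻¹ • m) := by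
    rw [smul_add, smul_inv_smul, mul_smul, mul_smul]
  rw [e1]
  rcases h (x⁻¹ • m) with h1 | h1
  · left; rw [h1, smul_zero]
  · right; rw [h1]

end Tv

/-- the centre of a transvection lies in `Ē_v` -/
theorem tv_E (S : TSys M H) {t : H} {e : M} (ht : Tv t e) (ht1 : t ≠ 1) {v : M} (hv : v ∈ S.L) : S.E v e := by
  obtain ⟨m, hm⟩ : ∃ m : M, t • m ≠ m := by
    by_contra hcon
    push Not at hcon
    exact ht1 (S.eq_one hcon)
  have hm' : t • m = m + e := (ht.cases S m).resolve_left hm
  have he0 : e ≠ 0 := fun h => hm (by rw [hm', h, add_zero])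
  have htt := ht.sq S
  have hte := ht.fix S
  have hvi : (S.a v)⁻¹ = S.a v := inv_eq_of_mul_eq_one_right (S.sq v hv)
  have hti : t⁻¹ = t := inv_eq_of_mul_eq_one_right htt
  rcases ht.cases S v with h1 | h1
  · -- `t ∈ H_v = C_H(a_v)`
    left
    refine S.c_eq_zero.mpr ?_
    have h2 := (S.cent_iff hv t).mpr h1
    have h3 : t • (S.a v • m) = S.a v • m + S.a v • e := by
      rw [← mul_smul, h2, mul_smul, hm', smul_add]
    rcases ht.cases S (S.a v • m) with h4 | h4
    · exfalso
      rw [h4] at h3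
      have h5 : S.a v • e = 0 := by simpa using h3.symm
      apply he0
      have := congrArg (fun x => (S.a v)⁻¹ • x) h5
      simpa using this
    · rw [h4] at h3
      exact (add_left_cancel h3).symm
  · -- `t v = v + e`
    have hw : v + e ∈ S.L := by rw [← h1]; exact S.smul_mem t v hv
    have haw : S.a (v + e) = t * S.a v * t := by
      rw [← h1, S.a_smul t v hv, hti]
    set f := S.a v • e with hf
    have hav := S.a_v hv
    -- `f = a e` is fixed by `t` or `t f = f + e`
    rcases ht.cases S f with h2 | h2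
    · -- `t` and `t^a` commute
      left
      refine S.c_eq_zero.mpr ?_
      have hta : Tv (S.a v * t * S.a v) f := by
        have := ht.conj (S.a v)
        rwa [hvi] at this
      have h3 : (S.a v * t * S.a v) • e = e := by
        rw [mul_smul, mul_smul, ← hf, h2, hf, S.smul_smul_self hv]
      have h4 : t * (S.a v * t * S.a v) = (S.a v * t * S.a v) * t := by
        refine S.eq_of_smul fun n => ?_
        rw [mul_smul, mul_smul (S.a v * t * S.a v) t]
        rcases ht.cases S n with h5 | h5 <;> rcases hta.cases S n with h6 | h6 <;> rw [h5, h6]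
        · exact h5
        · rw [smul_add, h5, h2]
        · rw [h5, smul_add, h6, h3]
        · rw [smul_add, h5, h2, smul_add, h6, h3]; abel
      -- `a` and `a_(v+e)` commute
      have h5 : S.a v * S.a (v + e) = S.a (v + e) * S.a v := by
        rw [haw]
        have e1 : S.a v * (t * S.a v * t) = (S.a v * t * S.a v) * t := by group
        have e2 : t * S.a v * t * S.a v = t * (S.a v * t * S.a v) := by group
        rw [e1, e2, h4]
      have h6 := (S.cent_iff hw (S.a v)).mp h5
      rw [smul_add, hav] at h6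
      exact add_left_cancel h6
    · -- order 3
      right
      have h3 : t • f = f + e := h2
      have hta : Tv (S.a v * t * S.a v) f := by
        have := ht.conj (S.a v)
        rwa [hvi] at this
      have hee : S.a v • f = e := by rw [hf, S.smul_smul_self hv]
      have h4 : (S.a v * t * S.a v) • e = e + f := by
        rw [mul_smul, mul_smul, ← hf, h3, smul_add, hee, ← hf]
      -- braid relation of `t` and `s = t^a`
      obtain ⟨s, hs⟩ : ∃ s : H, s = S.a v * t * S.a v := ⟨_, rfl⟩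
      rw [← hs] at hta h4
      have hff := hta.fix S
      have hbr : t * s * t = s * t * s := by
        refine S.eq_of_smul fun n => ?_
        simp only [mul_smul]
        rcases ht.cases S n with h5 | h5 <;> rcases hta.cases S n with h6 | h6 <;>
          simp only [h5, h6, smul_add, hte, h3, h4, hff]
        · have e1 : n + f + (f + (e + f)) = n + (f + f) + (f + e) := by abel
          rw [e1, S.two, add_zero]
        · have e1 : n + e + (e + (f + e)) = n + (e + e) + (e + f) := by abel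
          rw [e1, S.two, add_zero]
        · have e1 : n + e + (f + e) + (e + (f + e)) = n + (f + f) + (e + e) + (e + e) := by abel
          have e2 : n + f + (e + f) + (f + (e + f)) = n + (f + f) + (f + f) + (e + e) := by abel
          rw [e1, e2]; simp only [S.two]
      have h7 := S.order_three hv hw (fun h => he0 (by simpa using h.symm)) (by
        rw [haw]
        have haa := S.sq v hv
        calc S.a v * (t * S.a v * t) * S.a v = (S.a v * t * S.a v) * t * S.a v := by group
          _ = s * t * S.a v := by rw [← hs]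
          _ = s * t * S.a v * (t * t) := by rw [htt, mul_one]
          _ = s * t * (S.a v * t * (S.a v * S.a v)) * t := by rw [haa]; group
          _ = s * t * (S.a v * t * S.a v) * S.a v * t := by group
          _ = (s * t * s) * S.a v * t := by rw [← hs]
          _ = (t * s * t) * S.a v * t := by rw [hbr]
          _ = (t * (S.a v * t * S.a v) * t) * S.a v * t := by rw [← hs]
          _ = t * S.a v * t * S.a v * (t * S.a v * t) := by group)
      rw [S.c_add, S.c_v hv, zero_add] at h7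
      exact h7

/-- the submodule spanned by the centres of the transvections -/
theorem no_transvection (S : TSys M H) {t : H} {e : M} (ht : Tv t e) : t = 1 := by
  by_contra ht1
  let X : AddSubgroup M := AddSubgroup.closure {e | ∃ t : H, t ≠ 1 ∧ Tv t e}
  obtain ⟨v, hv⟩ := S.ne
  have hXE : ∀ m ∈ X, S.E v m := by
    intro m hm
    refine AddSubgroup.closure_induction ?_ (S.E_zero v) (fun a b _ _ => S.E_add) (fun a _ ha => ?_) hm
    · rintro e ⟨t, ht1, ht⟩
      exact S.tv_E ht ht1 hv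
    · have : -a = a := by
        rw [neg_eq_iff_add_eq_zero]; exact S.two a
      rwa [this]
  have hX : X ≠ ⊤ := by
    intro h
    obtain ⟨m, hm1, hm2⟩ := S.nt v hv
    rcases hXE m (by rw [h]; trivial) with h1 | h1
    · exact hm1 h1
    · exact hm2 h1
  refine ht1 (S.faith X ?_ hX t fun m => ?_)
  · intro x m hm
    refine AddSubgroup.closure_induction (p := fun m _ => x • m ∈ X) ?_ ?_ ?_ ?_ hm
    · rintro e ⟨t, ht1, ht⟩
      refine AddSubgroup.subset_closure ⟨x * t * x⁻¹, fun h => ht1 ?_, ht.conj x⟩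
      exact conj_eq_one_iff.mp h
    · rw [smul_zero]; exact zero_mem _
    · intro a b _ _ ha hb
      rw [smul_add]; exact add_mem ha hb
    · intro a _ ha
      rw [smul_neg]; exact neg_mem ha
  · rcases ht m with h | h
    · rw [h]; exact zero_mem _
    · rw [h]; exact AddSubgroup.subset_closure ⟨t, ht1, ht⟩

/-! ### S-pairs -/

theorem span (S : TSys M H) : AddSubgroup.closure S.L = ⊤ := by
  by_contra hne
  obtain ⟨v, hv⟩ := S.ne
  refine S.v_ne hv (S.lemI (AddSubgroup.closure S.L) ?_ hne v hv v (AddSubgroup.subset_closure hv) (S.v_mem_I hv))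
  intro x m hm
  refine AddSubgroup.closure_induction (p := fun m _ => x • m ∈ AddSubgroup.closure S.L) ?_ ?_ ?_ ?_ hm
  · intro w hw
    exact AddSubgroup.subset_closure (S.smul_mem x w hw)
  · rw [smul_zero]; exact zero_mem _
  · intro a b _ _ ha hb
    rw [smul_add]; exact add_mem ha hb
  · intro a _ ha
    rw [smul_neg]; exact neg_mem ha

theorem exists_not_E (S : TSys M H) {v : M} (hv : v ∈ S.L) : ∃ w ∈ S.L, ¬ S.E v w := by
  by_contra hcon
  push Not at hcon
  obtain ⟨m, hm1, hm2⟩ := S.nt v hv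
  have hm : m ∈ AddSubgroup.closure S.L := by rw [S.span]; trivial
  have : S.E v m := by
    refine AddSubgroup.closure_induction (fun w hw => hcon w hw) (S.E_zero v) (fun a b _ _ => S.E_add)
      (fun a _ ha => ?_) hm
    have : -a = a := by
      rw [neg_eq_iff_add_eq_zero]; exact S.two a
    rwa [this]
  rcases this with h1 | h1
  · exact hm1 h1
  · exact hm2 h1

/-- if `[w, a_v] ∉ E_w` then `(w, w^a_v)` is an S-pair -/
theorem Pair.of_a {S : TSys M H} {v w : M} (hv : v ∈ S.L) (hw : w ∈ S.L) (h : ¬ S.E w (S.c v w)) :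
    S.Pair w (S.a v • w) := by
  have h1 : ¬ S.E w (S.a v • w) := by
    rw [S.a_eq, add_comm]
    exact S.not_E_add h (S.E_v hw)
  refine ⟨hw, S.smul_mem _ w hw, h1, ?_⟩
  intro h2
  have h3 := S.E_smul (S.a v) hw (m := S.a v • w)
  rw [S.smul_smul_self hv] at h3
  exact h1 (h3.mp h2)

/-- **(3.5)** -/
theorem exists_pair (S : TSys M H) : ∃ v w, S.Pair v w := by
  obtain ⟨w, hw⟩ := S.ne
  obtain ⟨v, hv, hwv⟩ := S.exists_not_E hw
  by_cases hvw : S.E v w
  · rcases hvw with h | h
    · exact absurd (Or.inl ((S.c_comm hv hw).mp h)) hwv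
    · have h' : S.c v w = v := h
      exact ⟨w, S.a v • w, Pair.of_a hv hw (by rw [h']; exact hwv)⟩
  · exact ⟨v, w, hv, hw, hvw, hwv⟩

/-- **(4.1)** -/
theorem mu_not_E (S : TSys M H) {v w : M} (h : S.Pair v w) : ¬ S.E w (S.c v w) := by
  intro hE
  have hv := h.hv
  have hw := h.hw
  have hE' : S.E w (S.a v • w) := by
    rw [S.a_eq]; exact S.E_add (S.E_v hw) hE
  obtain ⟨u, hu1, hu2, hu0⟩ := S.grp v hv w hw (fun e => h.vw (Or.inl e)) (fun e => h.vw (Or.inr e))
    (fun e => h.wv (Or.inl e)) (fun e => h.wv (Or.inr e)) hE'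
  have h1 := S.alpha' h hu1 hu2 hu0
  have h2 := S.alpha' h.symm hu2 hu1 hu0
  have h3 : S.c v u = 0 := S.c_of_I hv hu1
  have h4 : S.c w u = 0 := S.c_of_I hw hu2
  have h5 : S.c v 0 = 0 := S.c_eq_zero.mpr (smul_zero _)
  have h6 : S.c w 0 = 0 := S.c_eq_zero.mpr (smul_zero _)
  have h7 : ∀ m, S.c v (S.c w m) = 0 ∨ S.c v (S.c w m) = u := by
    intro m
    rcases S.c_range hw h.wv m with e | e | e | e <;> rw [e]
    · exact Or.inl h5
    · exact Or.inr h1
    · rw [h2]; exact Or.inl h3
    · rw [h2, S.c_add, h3, h1, zero_add]; exact Or.inr rfl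
  have h8 : ∀ m, S.c w (S.c v m) = 0 ∨ S.c w (S.c v m) = u := by
    intro m
    rcases S.c_range hv h.vw m with e | e | e | e <;> rw [e]
    · exact Or.inl h6
    · exact Or.inr h2
    · rw [h1]; exact Or.inl h4
    · rw [h1, S.c_add, h4, h2, zero_add]; exact Or.inr rfl
  have ht : Tv (S.a v * S.a w * (S.a w * S.a v)⁻¹) u := by
    intro n
    set m := (S.a w * S.a v)⁻¹ • n with hm
    have hn : n = (S.a w * S.a v) • m := by rw [hm, smul_inv_smul]
    have e1 : (S.a v * S.a w * (S.a w * S.a v)⁻¹) • n + n = S.c v (S.c w m) + S.c w (S.c v m) := by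
      rw [mul_smul, ← hm]
      conv_lhs => rw [hn]
      rw [mul_smul, mul_smul, S.a_eq w m, S.a_eq v m, smul_add, smul_add, S.a_eq v m, S.a_eq w m,
        S.a_eq v (S.c w m), S.a_eq w (S.c v m)]
      have e2 : m + S.c v m + (S.c w m + S.c v (S.c w m)) + (m + S.c w m + (S.c v m + S.c w (S.c v m))) =
        (m + m) + (S.c v m + S.c v m) + (S.c w m + S.c w m) + (S.c v (S.c w m) + S.c w (S.c v m)) := by abel
      rw [e2]
      simp only [S.two, zero_add]
    rw [e1]
    rcases h7 m with e | e <;> rcases h8 m with e' | e' <;> rw [e, e']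
    · left; exact add_zero _
    · right; exact zero_add _
    · right; exact add_zero _
    · left; exact S.two u
  have h9 := S.no_transvection ht
  have h10 : S.a v * S.a w = S.a w * S.a v := mul_inv_eq_one.mp h9
  exact h.vw (Or.inl ((S.comm_iff hw).mp h10))

/-- **(4.2)** -/
theorem I_inf (S : TSys M H) {v w u : M} (h : S.Pair v w) (h1 : u ∈ S.I v) (h2 : u ∈ S.I w) : u = 0 := by
  by_contra hu
  apply S.mu_not_E h
  rw [S.alpha' h h1 h2 hu]
  exact S.E_of_I h.hw h2

theorem eq_of_fix (S : TSys M H) {v w u : M} (h : S.Pair v w) (h1 : S.a v • u = u) (h2 : u ∈ S.I w)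
    (hu : u ≠ 0) : u = S.c w (S.c v w) := by
  have hp := Pair.of_a h.hv h.hw (S.mu_not_E h)
  have h3 : u ∈ S.I (S.a v • w) := by
    have := S.I_smul (S.a v) w h.hw u h2
    rwa [h1] at this
  have h4 := S.alpha' hp h2 h3 hu
  rw [S.a_eq, S.c_add, S.c_v h.hw, zero_add] at h4
  exact h4.symm

/-- `D = I` at one line vector implies `D = I` at all -/
theorem D_trans (S : TSys M H) {v w : M} (hv : v ∈ S.L) (hw : w ∈ S.L) (h : ∀ d, S.a v • d = d → d ∈ S.I v) {d : M}
    (hd : S.a w • d = d) : d ∈ S.I w := by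
  obtain ⟨x, rfl⟩ := S.trans v hv w hw
  have h1 : S.a v • (x⁻¹ • d) = x⁻¹ • d := by
    rw [S.a_smul x v hv] at hd
    have := congrArg (fun y => x⁻¹ • y) hd
    simp only [mul_smul, inv_smul_smul] at this
    exact this
  have h2 := S.I_smul x v hv _ (h _ h1)
  rwa [smul_inv_smul] at h2

theorem rel' (S : TSys M H) {v w d : M} (h : S.Pair v w) (hd : S.a v • d = d) :
    ∃ i ∈ S.I v, ∃ j ∈ S.I w, S.a v • j = j ∧ d = i + j :=
  S.rel v h.hv w h.hw (fun e => h.vw (Or.inl e)) (fun e => h.vw (Or.inr e)) (fun e => h.wv (Or.inl e))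
    (fun e => h.wv (Or.inr e)) d hd

/-- **(4.3)** -/
theorem D_inf (S : TSys M H) {v w u : M} (h : S.Pair v w) (h1 : S.a v • u = u) (h2 : u ∈ S.I w) : u = 0 := by
  by_contra hu
  -- the other side is not trivial
  obtain ⟨u', hu1, hu2, hu0⟩ : ∃ u', S.a w • u' = u' ∧ u' ∈ S.I v ∧ u' ≠ 0 := by
    by_contra hcon
    push Not at hcon
    have hD : ∀ d, S.a w • d = d → d ∈ S.I w := by
      intro d hd
      obtain ⟨i, hi, j, hj, hj1, rfl⟩ := S.rel' h.symm hd
      rw [hcon j hj1 hj, add_zero]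
      exact hi
    exact hu (S.I_inf h (S.D_trans h.hw h.hv hD h1) h2)
  have e1 := S.eq_of_fix h h1 h2 hu
  have e2 := S.eq_of_fix h.symm hu1 hu2 hu0
  have hm := S.mu_not_E h
  rcases S.c_range h.hw h.wv (S.c v w) with e | e | e | e
  · exact hm (Or.inl e)
  · exact hm (Or.inr e)
  · -- `[μ, a'] = μ'`
    apply hu0
    rw [e2, ← e, ← e1]
    exact S.c_eq_zero.mpr h1
  · -- `[μ, a'] = μ' + w`
    have e3 : S.c v u = 0 := S.c_eq_zero.mpr h1
    rw [e1, e, S.c_add] at e3
    have e4 := S.eq_of e3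
    rw [← e2] at e4
    apply hm
    left
    change S.c w (S.c v w) = 0
    rw [← e4]
    exact S.c_eq_zero.mpr hu1

/-- **(4.4)** : `Ī = C_M(a)` -/
theorem mem_I_iff (S : TSys M H) {v d : M} (hv : v ∈ S.L) : d ∈ S.I v ↔ S.a v • d = d := by
  refine ⟨S.fix v hv d, fun hd => ?_⟩
  obtain ⟨v', w', h⟩ := S.exists_pair
  refine S.D_trans h.hv hv ?_ hd
  intro d hd
  obtain ⟨i, hi, j, hj, hj1, rfl⟩ := S.rel' h hd
  rw [S.D_inf h hj1 hj, add_zero]
  exact hi

theorem card_I_eq [Finite M] (S : TSys M H) {v w : M} (hv : v ∈ S.L) (hw : w ∈ S.L) :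
    Nat.card (S.I v) = Nat.card (S.I w) := by
  have key : ∀ v ∈ S.L, ∀ w ∈ S.L, Nat.card (S.I v) ≤ Nat.card (S.I w) := by
    intro v hv w hw
    obtain ⟨x, rfl⟩ := S.trans v hv w hw
    refine Nat.card_le_card_of_injective (fun m : S.I v => (⟨x • (m : M), S.I_smul x v hv m m.2⟩ : S.I (x • v))) ?_
    intro m n hmn
    have := congrArg Subtype.val hmn
    exact Subtype.ext (smul_left_cancel x this)
  exact le_antisymm (key v hv w hw) (key w hw v hv)

theorem four_card (S : TSys M H) {v m : M} (hv : v ≠ 0) (h0 : m ≠ 0) (h1 : m ≠ v) :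
    ({0, v, m, m + v} : Set M).ncard = 4 := by
  classical
  have e : ({0, v, m, m + v} : Set M) = (({0, v, m, m + v} : Finset M) : Set M) := by simp
  rw [e, Set.ncard_coe_finset]
  have h2 : m + v ≠ 0 := fun h => h1 (S.eq_of h)
  have h3 : m + v ≠ v := fun h => h0 (by simpa using h)
  have h4 : m + v ≠ m := fun h => hv (by simpa using h)
  rw [Finset.card_insert_of_notMem, Finset.card_insert_of_notMem, Finset.card_insert_of_notMem,
    Finset.card_singleton]
  · simp only [Finset.mem_singleton]; exact h4.symm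
  · simp only [Finset.mem_insert, Finset.mem_singleton, not_or]; exact ⟨h1.symm, h3.symm⟩
  · simp only [Finset.mem_insert, Finset.mem_singleton, not_or]; exact ⟨hv.symm, h0.symm, h2.symm⟩

/-- `c v` as a homomorphism -/
def cHom (S : TSys M H) (v : M) : M →+ M where
  toFun := S.c v
  map_zero' := S.c_eq_zero.mpr (smul_zero _)
  map_add' := S.c_add v

theorem mem_ker (S : TSys M H) {v m : M} (hv : v ∈ S.L) : m ∈ (S.cHom v).ker ↔ m ∈ S.I v := by
  rw [AddMonoidHom.mem_ker, S.mem_I_iff hv]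
  exact S.c_eq_zero

theorem range_eq (S : TSys M H) {v m : M} (hv : v ∈ S.L) (hm : ¬ S.E v m) :
    ((S.cHom v).range : Set M) = {0, v, S.c v m, S.c v m + v} := by
  ext n
  simp only [SetLike.mem_coe, AddMonoidHom.mem_range, Set.mem_insert_iff, Set.mem_singleton_iff]
  constructor
  · rintro ⟨k, rfl⟩
    exact S.c_range hv hm k
  · obtain ⟨k, hk⟩ := S.mem v hv
    rintro (rfl | rfl | rfl | rfl)
    · exact ⟨0, map_zero _⟩
    · exact ⟨k, hk⟩
    · exact ⟨m, rfl⟩
    · refine ⟨m + k, ?_⟩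
      rw [map_add]
      change S.c v m + S.c v k = _
      rw [show S.c v k = v from hk]

/-- `|M| = 4 |Ī|` -/
theorem card_M [Finite M] (S : TSys M H) {v w : M} (h : S.Pair v w) : Nat.card M = 4 * Nat.card (S.I v) := by
  have h1 : (S.cHom v).ker = S.I v := by
    ext m; exact S.mem_ker h.hv
  have h2 : (S.cHom v).ker.index = 4 := by
    rw [AddSubgroup.index_ker]
    change Nat.card (((S.cHom v).range : AddSubgroup M) : Set M) = 4
    rw [Nat.card_coe_set_eq, S.range_eq h.hv h.vw]
    exact S.four_card (S.v_ne h.hv) (fun e => h.vw (Or.inl e)) (fun e => h.vw (Or.inr e))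
  have h3 := AddSubgroup.card_mul_index (S.I v)
  rw [← h1, h2] at h3
  rw [← h1]; omega

/-- **(4.4)** -/
theorem card [Finite M] (S : TSys M H) : Nat.card M = 16 ∧ ∀ v ∈ S.L, Nat.card (S.I v) = 4 := by
  obtain ⟨v, w, h⟩ := S.exists_pair
  have h1 := S.card_M h
  have h2 := S.card_I_eq h.hv h.hw
  -- `|I| ≥ 4`
  have h3 : 4 ≤ Nat.card (S.I v) := by
    have h4 : ((S.cHom v).range : Set M) ⊆ S.I v := by
      rintro _ ⟨m, rfl⟩
      exact S.c_mem h.hv m
    have h5 := Set.ncard_le_ncard h4 (Set.toFinite _)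
    rw [S.range_eq h.hv h.vw, S.four_card (m := S.c v w) (S.v_ne h.hv) (fun e => h.vw (Or.inl e))
      (fun e => h.vw (Or.inr e))] at h5
    rwa [← Nat.card_coe_set_eq] at h5
  -- `|I|² ≤ |M|`
  have h4 : Nat.card (S.I v) * Nat.card (S.I w) ≤ Nat.card M := by
    rw [← Nat.card_prod]
    refine Nat.card_le_card_of_injective (fun x : S.I v × S.I w => (x.1 : M) + x.2) ?_
    rintro ⟨a, b⟩ ⟨a', b'⟩ hab
    have hab' : (a : M) + b = a' + b' := hab
    have e : (a : M) + a' = b + b' := by
      have e1 : (a : M) + b + (a' + b) = a' + b' + (a' + b) := by rw [hab']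
      have e2 : (a : M) + b + (a' + b) = (a + a') + (b + b) := by abel
      have e3 : (a' : M) + b' + (a' + b) = (a' + a') + (b + b') := by abel
      rw [e2, e3, S.two, S.two, add_zero, zero_add] at e1
      exact e1
    have h5 : (a : M) + a' = 0 := S.I_inf h (add_mem a.2 a'.2) (by rw [e]; exact add_mem b.2 b'.2)
    have h6 : (b : M) + b' = 0 := by rw [← e]; exact h5
    exact Prod.ext (Subtype.ext (S.eq_of h5)) (Subtype.ext (S.eq_of h6))
  rw [← h2, h1] at h4
  have h5 : Nat.card (S.I v) ≤ 4 := by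
    by_contra hcon
    have : 0 < Nat.card (S.I v) := by omega
    have := Nat.le_of_mul_le_mul_right h4 this
    omega
  have h6 : Nat.card (S.I v) = 4 := le_antisymm h5 h3
  refine ⟨by rw [h1, h6], fun x hx => ?_⟩
  rw [S.card_I_eq hx h.hv, h6]

/-- the four commutators of an S-pair, `μ = [w, a_v]`, `μ' = [v, a_w]`: `[μ, a_w] = μ' + w` -/
theorem c_mu (S : TSys M H) {v w : M} (h : S.Pair v w) : S.c w (S.c v w) = S.c w v + w := by
  have hm := S.mu_not_E h
  rcases S.c_range h.hw h.wv (S.c v w) with e | e | e | e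
  · exact absurd (Or.inl e) hm
  · exact absurd (Or.inr e) hm
  · exfalso
    have h1 : S.c w (S.c v w + v) = 0 := by rw [S.c_add, e, S.two]
    have h2 : S.c v w + v ∈ S.I w := (S.mem_I_iff h.hw).mpr (S.c_eq_zero.mp h1)
    have h3 := S.I_inf h (add_mem (S.c_mem h.hv w) (S.v_mem_I h.hv)) h2
    exact h.vw (Or.inr (S.eq_of h3))
  · exact e

end TSys

end Cfsg.Agent.Omega.NO3S.TwoOne
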